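import Cfsg.Agent.H73.LpB

/-! Project LP: membership in the special subgroups. -/

set_option autoImplicit false

namespace Cfsg.Agent.H73.LpB

open Cfsg.Agent.H17.LP Matrix Subgroup

theorem F01 : ∀ x : F, x = 0 ∨ x = 1 := by decide

def o : B := ⟨0, 0, 0, 0, 0, 0, 0, 0, 0, 0, 0, 0, 0, 0, 0, 0, 0, 0, 0, 0⟩
theorem el_o : el o = 1 := by decide
theorem Pat_le {S R : ℕ → ℕ → Bool} {h : Cl S R}
    (k : ∀ i j : Fin 5, decide (i + 1 < (j : ℕ) + 1) = false → R (i + 1) (j + 1) = false := by decide) :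
    Pat S R h ≤ T0 := fun _ hn => ⟨fun _ _ e => absurd e (by simp), fun i j e => hn.2 i j (k i j e)⟩
theorem Q_T : Q0 ≤ T0 := Pat_le
theorem QA_T : QA ≤ T0 := Pat_le
theorem A1_T : A1 ≤ T0 := Pat_le
theorem Ap_T : Ap ≤ T0 := Pat_le
theorem Z6_T : Z6 ≤ T0 := Pat_le
theorem T_H : T0 ≤ H0 := fun _ hn => ⟨hn.1, fun i j e => hn.2 i j (by revert i j; decide)⟩

def w1 (e : F) : B := ⟨0, 0, 0, e, 0, 0, 0, 0, 0, 0, 0, 0, 0, e, 0, 0, 0, 0, 0, 0⟩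
def w2 (e : F) : B := ⟨0, 0, 0, 0, 0, 0, e, 0, 0, 0, 0, 0, 0, 0, 0, 0, e, 0, 0, 0⟩
def w3 (e : F) : B := ⟨0, 0, 0, 0, 0, 0, 0, 0, e, 0, 0, 0, 0, 0, 0, 0, 0, 0, e, 0⟩
def w4 (e : F) : B := ⟨0, 0, 0, 0, 0, 0, 0, 0, 0, e, 0, 0, 0, 0, 0, 0, 0, 0, 0, e⟩
def z34 (e : F) : B := ⟨0, 0, 0, 0, 0, 0, 0, e, 0, 0, 0, 0, 0, 0, 0, 0, 0, 0, 0, 0⟩
def x12 (e : F) : B := ⟨0, 0, 0, 0, 0, 0, 0, 0, 0, 0, e, 0, 0, 0, 0, 0, 0, 0, 0, 0⟩
theorem ew1 : xx 1 5 * zz 1 5 = el (w1 1) := by decide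
theorem ew2 : xx 2 5 * zz 2 5 = el (w2 1) := by decide
theorem ew3 : xx 3 5 * zz 3 5 = el (w3 1) := by decide
theorem ew4 : xx 4 5 * zz 4 5 = el (w4 1) := by decide
theorem ez34 : zz 3 4 = el (z34 1) := by decide
theorem ex12 : xx 1 2 = el (x12 1) := by decide

theorem of01 {Y : Subgroup N0} (w : F → B) (h0 : w 0 = o) (h1 : el (w 1) ∈ Y) (e : F) : el (w e) ∈ Y := by
  rcases F01 e with rfl | rfl
  · rw [h0, el_o]; exact Y.one_mem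
  · exact h1

/-- a subgroup of `T` given in coordinates -/
def sub (P : B → Prop) (h1 : P o) (h : ∀ u w, P u → P w → P (u * w)) : Subgroup N0 := ofSubmonoid
  { carrier := {n | ∃ u, n = el u ∧ P u}
    one_mem' := ⟨o, el_o.symm, h1⟩
    mul_mem' := by
      rintro _ _ ⟨u, rfl, hu⟩ ⟨w, rfl, hw⟩
      exact ⟨u * w, (el_mul u w).symm, h u w hu hw⟩ }

theorem mem_sub {P : B → Prop} {h1 : P o} {h : ∀ u w, P u → P w → P (u * w)} {u : B} :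
    el u ∈ sub P h1 h ↔ P u := ⟨fun ⟨_, e, k⟩ => el_inj e ▸ k, fun k => ⟨u, rfl, k⟩⟩

def PApp (u : B) : Prop := u.x12 = 0 ∧ u.x13 = 0 ∧ u.x14 = 0 ∧ u.x23 = 0 ∧ u.x24 = 0 ∧ u.x34 = 0 ∧
  u.a15 = u.x15 ∧ u.a25 = u.x25 ∧ u.a35 = u.x35 ∧ u.a45 = u.x45

theorem App_T : App ≤ T0 := sup_le Z6_T ((closure_le _).2 (by
  rintro _ ⟨h, hh, rfl⟩
  simp only [List.mem_cons, List.not_mem_nil, or_false] at hh
  rcases hh with rfl | rfl | rfl | rfl <;> simp only [ew1, ew2, ew3, ew4] <;> exact el_T _))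

theorem mem_App (u : B) : el u ∈ App ↔ PApp u := by
  constructor
  · intro hu
    have : App ≤ sub PApp (by simp [PApp, o]) (fun u w hu hw => by
        simp only [PApp, mul_def, B.mul] at *
        obtain ⟨h1, h2, h3, h4, h5, h6, h7, h8, h9, h10⟩ := hu
        obtain ⟨k1, k2, k3, k4, k5, k6, k7, k8, k9, k10⟩ := hw
        simp [*]) := by
      refine sup_le (fun n hn => ?_) ((closure_le _).2 ?_)
      · obtain ⟨v, rfl⟩ := ex (Z6_T hn)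
        rw [mem_Z6] at hn
        exact mem_sub.2 (by simp [PApp, hn])
      · rintro _ ⟨h, hh, rfl⟩
        simp only [List.mem_cons, List.not_mem_nil, or_false] at hh
        rcases hh with rfl | rfl | rfl | rfl <;> simp only [ew1, ew2, ew3, ew4] <;>
          exact mem_sub.2 (by simp [PApp, w1, w2, w3, w4])
    exact mem_sub.1 (this hu)
  · rintro ⟨h1, h2, h3, h4, h5, h6, h7, h8, h9, h10⟩
    have g : ∀ h ∈ [1, 2, 3, 4], xx h 5 * zz h 5 ∈ App := fun h hh =>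
      mem_sup_right (subset_closure ⟨h, hh, rfl⟩)
    have m : el (w1 u.x15 * (w2 u.x25 * (w3 u.x35 * w4 u.x45))) ∈ App := by
      rw [el_mul, el_mul, el_mul]
      exact mul_mem (of01 w1 rfl (ew1 ▸ g 1 (by simp)) _) (mul_mem (of01 w2 rfl (ew2 ▸ g 2 (by simp)) _)
        (mul_mem (of01 w3 rfl (ew3 ▸ g 3 (by simp)) _) (of01 w4 rfl (ew4 ▸ g 4 (by simp)) _)))
    obtain ⟨d, e, k⟩ := quo u (w1 u.x15 * (w2 u.x25 * (w3 u.x35 * w4 u.x45)))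
    have hd : el d ∈ Z6 := by
      rw [mem_Z6]
      have k' := B.ext_iff.1 k
      simp only [mul_def, B.mul, w1, w2, w3, w4, h1, h2, h3, h4, h5, h6, h7, h8, h9, h10, mul_zero, zero_mul,
        add_zero, zero_add] at k'
      obtain ⟨-, -, -, e4, -, -, e7, -, e9, e10, e11, e12, e13, e14, e15, e16, e17, e18, e19, e20⟩ := k'
      have c11 := e11.symm
      have c12 := e12.symm
      have c13 := e13.symm
      have c15 := e15.symm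
      have c16 := e16.symm
      have c18 := e18.symm
      simp only [c11, c12, c13, c15, c16, c18, mul_zero, zero_mul, add_zero] at *
      grind
    rw [← inv_mul_cancel_right (el u) (el _), e]
    exact mul_mem (mem_sup_left hd) m

theorem mem_Qsup (q : QKStmt) {Y : Subgroup N0} (hY : Y ≤ T0) (u : B) :
    el u ∈ Q0 ⊔ Y ↔ ∃ w, el w ∈ Y ∧ EQ u w := by
  rw [H1.mem_sup_of_le_normalizer' (hY.trans (T_H.trans q.2.2.2.2.2.2.2.2.2.2))]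
  constructor
  · rintro ⟨a, ha, b, hb, e⟩
    obtain ⟨w, rfl⟩ := ex (hY hb)
    exact ⟨w, hb, (quo_Q u w).1 (by rw [← e, mul_inv_cancel_right]; exact ha)⟩
  · rintro ⟨w, hw, e⟩
    exact ⟨_, (quo_Q u w).2 e, _, hw, inv_mul_cancel_right _ _⟩

theorem mem_QAp (q : QKStmt) (u : B) :
    el u ∈ Q0 ⊔ Ap ↔ u.x12 = 0 ∧ u.x34 = 0 ∧ u.a35 = 0 ∧ u.a45 = 0 := by
  rw [mem_Qsup q Ap_T]
  constructor
  · rintro ⟨w, hw, e⟩
    rw [mem_Ap] at hw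
    simp only [EQ] at e
    simp [e, hw]
  · intro h
    exact ⟨⟨0, 0, 0, 0, 0, 0, 0, u.a34, 0, 0, 0, 0, 0, 0, 0, 0, 0, 0, u.x35, u.x45⟩, by simp [mem_Ap], by simp [EQ, h]⟩

theorem mem_QApp (q : QKStmt) (u : B) :
    el u ∈ Q0 ⊔ App ↔ u.x12 = 0 ∧ u.x34 = 0 ∧ u.a35 = u.x35 ∧ u.a45 = u.x45 := by
  rw [mem_Qsup q App_T]
  constructor
  · rintro ⟨w, hw, e⟩
    rw [mem_App, PApp] at hw
    simp only [EQ] at e
    simp [e, hw]
  · intro h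
    exact ⟨⟨0, 0, 0, 0, 0, 0, 0, u.a34, u.x35, u.x45, 0, 0, 0, 0, 0, 0, 0, 0, u.x35, u.x45⟩, by simp [mem_App, PApp], by simp [EQ, h]⟩

theorem zp_T : zpowers (zz 3 4) ≤ T0 := zpowers_le.2 (ez34 ▸ el_T _)

theorem cl_T : closure {xx 1 2, zz 3 4} ≤ T0 := (closure_le _).2 (by
  rintro _ (rfl | rfl)
  exacts [ex12 ▸ el_T _, ez34 ▸ el_T _])

theorem mem_Qz (q : QKStmt) (u : B) : el u ∈ Q0 ⊔ zpowers (zz 3 4) ↔
    u.x12 = 0 ∧ u.x34 = 0 ∧ u.x35 = 0 ∧ u.x45 = 0 ∧ u.a35 = 0 ∧ u.a45 = 0 := by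
  rw [mem_Qsup q zp_T]
  constructor
  · rintro ⟨w, hw, e⟩
    have := (mem_Z6 w).1 ((zpowers_le.2 (ez34 ▸ (mem_Z6 _).2 (by simp [z34]))) hw)
    simp only [EQ] at e
    simp [e, this]
  · intro h
    exact ⟨z34 u.a34, of01 z34 rfl (ez34 ▸ mem_zpowers _) _, by simp [EQ, h, z34]⟩

theorem mem_Qxz (q : QKStmt) (u : B) : el u ∈ Q0 ⊔ closure {xx 1 2, zz 3 4} ↔
    u.x34 = 0 ∧ u.x35 = 0 ∧ u.x45 = 0 ∧ u.a35 = 0 ∧ u.a45 = 0 := by
  rw [mem_Qsup q cl_T]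
  constructor
  · rintro ⟨w, hw, e⟩
    have : closure {xx 1 2, zz 3 4} ≤ sub (fun u => u.x34 = 0 ∧ u.x35 = 0 ∧ u.x45 = 0 ∧ u.a35 = 0 ∧ u.a45 = 0)
        (by simp [o]) (fun u w hu hw => by simp [mul_def, B.mul, hu, hw]) := (closure_le _).2 (by
      rintro _ (rfl | rfl)
      exacts [ex12 ▸ mem_sub.2 (by simp [x12]), ez34 ▸ mem_sub.2 (by simp [z34])])
    have := mem_sub.1 (this hw)
    simp only [EQ] at e
    simp [e, this]
  · intro h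
    refine ⟨z34 u.a34 * x12 u.x12, ?_, by simp [EQ, h, z34, x12, mul_def, B.mul]⟩
    rw [el_mul]
    exact mul_mem (of01 z34 rfl (ez34 ▸ subset_closure (Or.inr rfl)) _)
      (of01 x12 rfl (ex12 ▸ subset_closure (Or.inl rfl)) _)

end Cfsg.Agent.H73.LpB
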