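import Cfsg.Agent.H73.GK2
import Cfsg.Agent.H73.FieldPSL
import Cfsg.Prelude.Def_LieTypeChar

/-! The prime graph data for the linear groups. -/

set_option autoImplicit false
set_option linter.unusedSectionVars false

namespace Cfsg.Agent.H73.GK

open Matrix Subgroup SemidirectProduct

variable {ι : Type*} [Fintype ι] [DecidableEq ι] {F : Type*} [Field F] {s : ℕ}

theorem mext {A B : Matrix ι ι F} (h : ∀ z, A *ᵥ z = B *ᵥ z) : A = B :=
  Matrix.toLin'.injective (LinearMap.ext h)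

/-- The identity plus a matrix of rank one. -/
def rk (u φ : ι → F) : Matrix ι ι F := 1 + vecMulVec u φ

theorem rk_mulVec (u φ z : ι → F) : rk u φ *ᵥ z = z + (φ ⬝ᵥ z) • u := by
  rw [rk, add_mulVec, one_mulVec, vecMulVec_mulVec, op_smul_eq_smul]

theorem det_rk (u φ : ι → F) : (rk u φ).det = 1 + φ ⬝ᵥ u := H26.det_one_add_vecMulVec u φ

theorem commute_rk {x : Matrix ι ι F} {u φ : ι → F} (hu : x *ᵥ u = u) (hφ : ∀ z, φ ⬝ᵥ x *ᵥ z = φ ⬝ᵥ z) (c : F) :
    rk u (c • φ) * x = x * rk u (c • φ) := mext fun z => by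
  simp only [← mulVec_mulVec, rk_mulVec, mulVec_add, mulVec_smul, hu, smul_dotProduct, hφ]

theorem ord_mk (hs : s.Prime) {x : SpecialLinearGroup ι F} (h1 : x ≠ 1) (hx : x ^ s = 1) {v : ι → F} (h0 : v ≠ 0)
    (hv : (x : Matrix ι ι F) *ᵥ v = v) : orderOf (QuotientGroup.mk x : ProjectiveSpecialLinearGroup ι F) = s := by
  refine orderOf_mk_eq hs (hx ▸ one_mem _) fun hc => h1 ?_
  obtain ⟨r, -, hr⟩ := Matrix.SpecialLinearGroup.mem_center_iff.1 hc
  have h2 : r • v = v := by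
    rw [← hr] at hv
    refine Eq.trans ?_ hv
    ext i
    simp [mulVec_diagonal]
  have h3 : r = 1 := smul_left_injective F h0 (h2.trans (one_smul F v).symm)
  exact Subtype.ext (by rw [← hr, h3, map_one]; rfl)

theorem diagPSL_mk {g : GL ι F} {x x' : SpecialLinearGroup ι F}
    (h : SpecialLinearGroup.toGL x' = g * SpecialLinearGroup.toGL x * g⁻¹) :
    diagPSL ι F g (QuotientGroup.mk x) = QuotientGroup.mk x' :=
  ind_mk SpecialLinearGroup.toGL_injective _ (h.trans (DFunLike.congr_fun (gammaAct_inl g) _).symm)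

theorem iotaPSL_mk {x x' : SpecialLinearGroup ι F}
    (h : SpecialLinearGroup.toGL x' = invT ι F (SpecialLinearGroup.toGL x)) :
    iotaPSL ι F (QuotientGroup.mk x) = QuotientGroup.mk x' :=
  ind_mk SpecialLinearGroup.toGL_injective _ h

theorem fieldPSL_mk {σ : RingAut F} {x x' : SpecialLinearGroup ι F}
    (h : SpecialLinearGroup.toGL x' = glMap ι F σ (SpecialLinearGroup.toGL x)) :
    thetaPSL ι F (inr σ) (QuotientGroup.mk x) = QuotientGroup.mk x' :=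
  ind_mk SpecialLinearGroup.toGL_injective _ (h.trans (DFunLike.congr_fun (gammaAct_inr σ) _).symm)

/-- A transvection as an element of `SL`. -/
def tvS (u φ : ι → F) (h : φ ⬝ᵥ u = 0) : SpecialLinearGroup ι F := ⟨rk u φ, by rw [det_rk, h, add_zero]⟩

theorem tvS_mulVec {u φ : ι → F} (h : φ ⬝ᵥ u = 0) (z : ι → F) :
    (tvS u φ h : Matrix ι ι F) *ᵥ z = z + (φ ⬝ᵥ z) • u := rk_mulVec u φ z

theorem tvS_fix {u φ w : ι → F} (h : φ ⬝ᵥ u = 0) (hw : φ ⬝ᵥ w = 0) : (tvS u φ h : Matrix ι ι F) *ᵥ w = w := by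
  rw [tvS_mulVec, hw, zero_smul, add_zero]

theorem tvS_pow {u φ : ι → F} (h : φ ⬝ᵥ u = 0) (hs : (s : F) = 0) : tvS u φ h ^ s = 1 := by
  have key : ∀ (k : ℕ) z, (rk u φ ^ k) *ᵥ z = z + ((k : F) * (φ ⬝ᵥ z)) • u := fun k => by
    induction k with
    | zero => simp
    | succ k ih =>
      intro z
      rw [pow_succ', ← mulVec_mulVec, ih, rk_mulVec, dotProduct_add, dotProduct_smul, h, Nat.cast_succ]
      module
  exact Subtype.ext (mext fun z => (key s z).trans (by simp [hs]))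

theorem tvS_ne_one {u φ w : ι → F} (h : φ ⬝ᵥ u = 0) (hu : u ≠ 0) (hw : φ ⬝ᵥ w = 1) : tvS u φ h ≠ 1 := fun e => by
  have : rk u φ *ᵥ w = (1 : Matrix ι ι F) *ᵥ w := congrArg (fun x : SpecialLinearGroup ι F => x.1 *ᵥ w) e
  rw [rk_mulVec, hw, one_smul, one_mulVec, add_eq_left] at this
  exact hu this

/-- Minus one on a plane. -/
def nS (u₁ u₂ φ₁ φ₂ : ι → F) (h1 : φ₁ ⬝ᵥ u₁ = 1) (h2 : φ₂ ⬝ᵥ u₂ = 1) : SpecialLinearGroup ι F :=
  ⟨rk u₁ ((-2 : F) • φ₁) * rk u₂ ((-2 : F) • φ₂), by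
    rw [det_mul, det_rk, det_rk, smul_dotProduct, smul_dotProduct, h1, h2]; norm_num⟩

section Frame

variable {u₁ u₂ φ₁ φ₂ w : ι → F} (h1 : φ₁ ⬝ᵥ u₁ = 1) (h2 : φ₂ ⬝ᵥ u₂ = 1) (h12 : φ₁ ⬝ᵥ u₂ = 0) (h21 : φ₂ ⬝ᵥ u₁ = 0)
include h12

theorem nS_mulVec (z : ι → F) : (nS u₁ u₂ φ₁ φ₂ h1 h2 : Matrix ι ι F) *ᵥ z =
    z - (2 * (φ₁ ⬝ᵥ z)) • u₁ - (2 * (φ₂ ⬝ᵥ z)) • u₂ := by
  change (rk _ _ * rk _ _) *ᵥ z = _
  simp only [← mulVec_mulVec, rk_mulVec, smul_dotProduct, dotProduct_add, dotProduct_smul, h12]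
  module

include h21

theorem ord_nS (hF : (2 : F) ≠ 0) (w0 : w ≠ 0) (w1 : φ₁ ⬝ᵥ w = 0) (w2 : φ₂ ⬝ᵥ w = 0) :
    orderOf (QuotientGroup.mk (nS u₁ u₂ φ₁ φ₂ h1 h2) : ProjectiveSpecialLinearGroup ι F) = 2 := by
  refine ord_mk Nat.prime_two (fun e => ?_) (Subtype.ext (mext fun z => ?_)) w0 (by simp [nS_mulVec h1 h2 h12, w1, w2])
  · have := congrArg (φ₁ ⬝ᵥ ·) (nS_mulVec h1 h2 h12 u₁)
    simp only [e, Matrix.SpecialLinearGroup.coe_one, one_mulVec, dotProduct_sub, dotProduct_smul, h1, h12, h21] at this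
    exact hF (by simp only [smul_eq_mul] at this; linear_combination this)
  · change ((nS u₁ u₂ φ₁ φ₂ h1 h2 : Matrix ι ι F) ^ 2) *ᵥ z = (1 : Matrix ι ι F) *ᵥ z
    rw [sq, ← mulVec_mulVec, nS_mulVec h1 h2 h12, nS_mulVec h1 h2 h12]
    simp only [dotProduct_sub, dotProduct_smul, h1, h2, h12, h21, one_mulVec]
    module

include h1 h2 in
theorem adj_of_frame [Finite F] (hs : s.Prime) (hs2 : s ≠ 2) (w0 : w ≠ 0) (w1 : φ₁ ⬝ᵥ w = 0) (w2 : φ₂ ⬝ᵥ w = 0)
    {x : SpecialLinearGroup ι F} (hx : orderOf (QuotientGroup.mk x : ProjectiveSpecialLinearGroup ι F) = s)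
    (a1 : (x : Matrix ι ι F) *ᵥ u₁ = u₁) (a2 : (x : Matrix ι ι F) *ᵥ u₂ = u₂)
    (b1 : ∀ z, φ₁ ⬝ᵥ (x : Matrix ι ι F) *ᵥ z = φ₁ ⬝ᵥ z) (b2 : ∀ z, φ₂ ⬝ᵥ (x : Matrix ι ι F) *ᵥ z = φ₂ ⬝ᵥ z) :
    Adj (ProjectiveSpecialLinearGroup ι F) 2 s := by
  by_cases hF : (2 : F) = 0
  · refine adj_of_commute Nat.prime_two hs hs2.symm (Commute.map (x := tvS u₁ φ₂ h21) (y := x) (Subtype.ext ?_)
      (QuotientGroup.mk' _)) (ord_mk Nat.prime_two (tvS_ne_one h21 (fun e => by simp [e] at h1) h2)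
      (tvS_pow h21 (by simpa using hF)) w0 (tvS_fix _ w2)).symm.dvd hx.symm.dvd
    have := commute_rk a1 b2 1
    rwa [one_smul] at this
  · refine adj_of_commute Nat.prime_two hs hs2.symm (Commute.map (x := nS u₁ u₂ φ₁ φ₂ h1 h2) (y := x) (Subtype.ext ?_)
      (QuotientGroup.mk' _)) (ord_nS h1 h2 h12 h21 hF w0 w1 w2).symm.dvd hx.symm.dvd
    change rk _ _ * rk _ _ * x.1 = x.1 * (rk _ _ * rk _ _)
    rw [mul_assoc, commute_rk a2 b2, ← mul_assoc, commute_rk a1 b1, mul_assoc]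

end Frame

theorem exists_dual {W : Submodule F (ι → F)} {u : ι → F} (h : u ∉ W) :
    ∃ φ : ι → F, φ ⬝ᵥ u = 1 ∧ ∀ w ∈ W, φ ⬝ᵥ w = 0 := by
  obtain ⟨f, h1, h2⟩ := W.exists_dual_map_eq_bot_of_notMem h inferInstance
  refine ⟨(f u)⁻¹ • fun i => f (Pi.single i 1), ?_, fun w hw => ?_⟩
  · rw [smul_dotProduct, ← dual_eq_dot, smul_eq_mul, inv_mul_cancel₀ h1]
  · rw [smul_dotProduct, ← dual_eq_dot, show f w = 0 from (Submodule.mem_bot F).1 (h2 ▸ Submodule.mem_map_of_mem hw), smul_zero]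

variable [Finite F]

/-- The decomposition lemma for `SL`. -/
theorem dec_SL (hs : s.Prime) (h2 : s ≠ 2) (hF : (s : F) ≠ 0) (h : ¬ SylCyc (ProjectiveSpecialLinearGroup ι F) s) :
    ∃ (x y : SpecialLinearGroup ι F) (W : Submodule F (ι → F)) (v : ι → F), x ≠ 1 ∧ x ^ s = 1 ∧ y ^ s = 1 ∧
      (x : Matrix ι ι F) *ᵥ v = v ∧ (x : Matrix ι ι F) *ᵥ ((y : Matrix ι ι F) *ᵥ v) = (y : Matrix ι ι F) *ᵥ v ∧
      (y : Matrix ι ι F) *ᵥ v ≠ v ∧ (∀ w ∈ W, (x : Matrix ι ι F) *ᵥ w = w → w = 0) ∧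
      (∀ w, w ∈ W ↔ ∃ z, (x : Matrix ι ι F) *ᵥ z - z = w) := by
  obtain ⟨x, y, hc, hx, hy, v, h1, h3⟩ := dec (SpecialLinearGroup.toLin' (n := ι) (R := F))
    SpecialLinearGroup.toLin'_injective hs h2 hF fun k => h (k.quot hs _)
  have hxs : x ^ s = 1 := hx ▸ pow_orderOf_eq_one x
  refine ⟨x, y, LinearMap.range (Matrix.toLin' x.1 - 1), v, fun e => hs.one_lt.ne' (by rw [← hx, e, orderOf_one]), hxs,
    hy ▸ pow_orderOf_eq_one y, h1, ?_, h3, fun w ⟨z, hz⟩ hw => eq_zero_of_fix (s := s) (x := Matrix.toLin' x.1) ?_ hF hz hw,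
    fun w => Iff.rfl⟩
  · rw [mulVec_mulVec, ← Matrix.SpecialLinearGroup.coe_mul, hc.eq, Matrix.SpecialLinearGroup.coe_mul, ← mulVec_mulVec]
    exact congrArg _ h1
  · rw [← Matrix.toLin'_pow, ← Matrix.SpecialLinearGroup.coe_pow, hxs]
    exact Matrix.toLin'_one

theorem single_dot {i j : ι} (h : i ≠ j) : (Pi.single i 1 : ι → F) ⬝ᵥ Pi.single j 1 = 0 := by simp [h]

theorem exists_good {i j k : ι} (hij : i ≠ j) (hik : i ≠ k) (hjk : j ≠ k) (hs : s.Prime)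
    (hc : s = 2 ∨ ¬ SylCyc (ProjectiveSpecialLinearGroup ι F) s) :
    ∃ x : SpecialLinearGroup ι F, orderOf (QuotientGroup.mk x : ProjectiveSpecialLinearGroup ι F) = s ∧
      ∃ u φ : ι → F, φ ⬝ᵥ u = 1 ∧ (x : Matrix ι ι F) *ᵥ u = u ∧ ∀ z, φ ⬝ᵥ (x : Matrix ι ι F) *ᵥ z = φ ⬝ᵥ z := by
  by_cases hp : (s : F) = 0
  · refine ⟨tvS (Pi.single i 1) (Pi.single j 1) (single_dot hij.symm), ord_mk hs
      (tvS_ne_one (w := Pi.single j 1) _ (by simp) (by simp)) (tvS_pow _ hp) (v := Pi.single i 1) (by simp)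
      (tvS_fix _ (single_dot hij.symm)), Pi.single k 1, Pi.single k 1, by simp, tvS_fix _ (single_dot hjk),
      fun z => by simp [tvS_mulVec, hik.symm]⟩
  by_cases h2 : s = 2
  · subst h2
    have h1 : ∀ l : ι, (Pi.single l 1 : ι → F) ⬝ᵥ Pi.single l 1 = 1 := fun l => by simp
    refine ⟨nS _ _ _ _ (h1 i) (h1 j), ord_nS _ _ (single_dot hij) (single_dot hij.symm) (by simpa using hp)
      (w := Pi.single k 1) (by simp) (single_dot hik) (single_dot hjk), Pi.single k 1, Pi.single k 1, h1 k, ?_, fun z => ?_⟩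
    · simp [nS_mulVec _ _ (single_dot hij), hik, hjk]
    · simp [nS_mulVec _ _ (single_dot hij), hik.symm, hjk.symm]
  obtain ⟨x, y, W, v, x1, xs, -, xv, -, yv, hW, hW'⟩ := dec_SL hs h2 hp (hc.resolve_left h2)
  have v0 : v ≠ 0 := fun e => yv (by simp [e])
  obtain ⟨φ, a, b⟩ := exists_dual (W := W) (u := v) fun h => v0 (hW v h xv)
  exact ⟨x, ord_mk hs x1 xs v0 xv, v, φ, a, xv, fun z => sub_eq_zero.1 (by
    rw [← dotProduct_sub]; exact b _ ((hW' _).2 ⟨z, rfl⟩))⟩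

theorem diag_eq_of_det [Nontrivial ι] {g h : GL ι F} (e : GeneralLinearGroup.det g = GeneralLinearGroup.det h) :
    (diagPSL ι F g : Out (ProjectiveSpecialLinearGroup ι F)) = (diagPSL ι F h : MulAut _) := by
  rw [QuotientGroup.eq, ← map_inv, ← map_mul, ← mem_comap, comap_inn_diagPSL, mem_comap, map_mul, map_inv, e,
    inv_mul_cancel]
  exact one_mem _

theorem fix_diag {i j k : ι} (hij : i ≠ j) (hik : i ≠ k) (hjk : j ≠ k) (hs : s.Prime)
    (hc : ¬ SylCyc (ProjectiveSpecialLinearGroup ι F) s) (g : GL ι F) :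
    ∃ a : MulAut (ProjectiveSpecialLinearGroup ι F), (a : Out (ProjectiveSpecialLinearGroup ι F)) =
      (diagPSL ι F g : MulAut _) ∧ ∃ x, orderOf x = s ∧ a x = x := by
  have : Nontrivial ι := ⟨i, j, hij⟩
  obtain ⟨x, hx, u, φ, h1, h2, h3⟩ := exists_good hij hik hjk hs (.inr hc)
  have hd : (rk u (((GeneralLinearGroup.det g : F) - 1) • φ)).det = (GeneralLinearGroup.det g : F) := by
    rw [det_rk, smul_dotProduct, h1]; simp
  let r : GL ι F := GeneralLinearGroup.mkOfDetNeZero _ (hd ▸ (GeneralLinearGroup.det g).ne_zero)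
  refine ⟨diagPSL ι F r, diag_eq_of_det (Units.ext hd), _, hx, diagPSL_mk (eq_mul_inv_of_mul_eq (Units.ext ?_))⟩
  exact (commute_rk h2 h3 _).symm

theorem adj_of_not_dvd (hs : s.Prime) (h2 : s ≠ 2) (hF : (s : F) ≠ 0) (hq : ∀ c : F, c ^ s = 1 → c = 1)
    (h : ¬ SylCyc (ProjectiveSpecialLinearGroup ι F) s) : Adj (ProjectiveSpecialLinearGroup ι F) 2 s := by
  obtain ⟨x, y, W, v, x1, xs, ys, xv, xy, yv, hW, hW'⟩ := dec_SL hs h2 hF h
  have v0 : v ≠ 0 := fun e => yv (by simp [e])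
  obtain ⟨φ₁, a, b⟩ := exists_dual (W := W) (u := v) fun h => v0 (hW v h xv)
  set u := (y : Matrix ι ι F) *ᵥ v - (φ₁ ⬝ᵥ (y : Matrix ι ι F) *ᵥ v) • v with hu
  have xu : (x : Matrix ι ι F) *ᵥ u = u := by rw [hu, mulVec_sub, mulVec_smul, xv, xy]
  obtain ⟨φ₂, c, d⟩ := exists_dual (W := W ⊔ F ∙ v) (u := u) fun h => by
    obtain ⟨w, hw, _, h3, e⟩ := Submodule.mem_sup.1 h
    obtain ⟨l, rfl⟩ := Submodule.mem_span_singleton.1 h3
    have w0 : w = 0 := hW w hw (by rw [eq_sub_of_add_eq e, mulVec_sub, mulVec_smul, xv, xu])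
    obtain ⟨m, hm⟩ : ∃ m : F, (y : Matrix ι ι F) *ᵥ v = m • v :=
      ⟨l + _, by rw [add_smul, ← sub_eq_iff_eq_add, ← hu, ← e, w0, zero_add]⟩
    have key : ∀ k : ℕ, ((y : Matrix ι ι F) ^ k) *ᵥ v = m ^ k • v := fun k => by
      induction k with
      | zero => simp
      | succ k ih => rw [pow_succ', ← mulVec_mulVec, ih, mulVec_smul, hm, smul_smul, pow_succ]
    have h4 := key s
    rw [← Matrix.SpecialLinearGroup.coe_pow, ys, Matrix.SpecialLinearGroup.coe_one, one_mulVec] at h4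
    exact yv (by rw [hm, hq m (smul_left_injective F v0 (h4.symm.trans (one_smul F v).symm)), one_smul])
  obtain ⟨z, hz⟩ : ∃ z, (x : Matrix ι ι F) *ᵥ z - z ≠ 0 := by
    by_contra! h3
    exact x1 (Subtype.ext (mext fun z => (sub_eq_zero.1 (h3 z)).trans (one_mulVec z).symm))
  have m : ∀ z, (x : Matrix ι ι F) *ᵥ z - z ∈ W := fun z => (hW' _).2 ⟨z, rfl⟩
  exact adj_of_frame a c (by simp [hu, a]) (d v (Submodule.mem_sup_right (Submodule.mem_span_singleton_self v))) hs h2 hz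
    (b _ (m z)) (d _ (Submodule.mem_sup_left (m z))) (ord_mk hs x1 xs v0 xv) xv xu
    (fun z => sub_eq_zero.1 (by rw [← dotProduct_sub]; exact b _ (m z)))
    fun z => sub_eq_zero.1 (by rw [← dotProduct_sub]; exact d _ (Submodule.mem_sup_left (m z)))

theorem adj_char {i j k : ι} (hij : i ≠ j) (hik : i ≠ k) (hjk : j ≠ k) (hs : s.Prime) (h2 : s ≠ 2)
    (hF : (s : F) = 0) : Adj (ProjectiveSpecialLinearGroup ι F) 2 s := by
  have h1 : ∀ l : ι, (Pi.single l 1 : ι → F) ⬝ᵥ Pi.single l 1 = 1 := fun l => by simp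
  have hF2 : (2 : F) ≠ 0 := fun e => by
    obtain ⟨m, rfl⟩ := hs.odd_of_ne_two h2
    simp [e] at hF
  refine adj_of_commute Nat.prime_two hs h2.symm (Commute.map (x := nS _ _ _ _ (h1 i) (h1 j))
    (y := tvS (Pi.single i 1) (Pi.single j 1) (single_dot hij.symm)) (Subtype.ext (mext fun z => ?_)) (QuotientGroup.mk' _))
    (ord_nS _ _ (single_dot hij) (single_dot hij.symm) hF2 (w := Pi.single k 1) (by simp) (single_dot hik)
      (single_dot hjk)).symm.dvd (ord_mk hs (tvS_ne_one (w := Pi.single j 1) _ (by simp) (by simp)) (tvS_pow _ hF)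
      (v := Pi.single i 1) (by simp) (tvS_fix _ (single_dot hij.symm))).symm.dvd
  change ((nS _ _ _ _ (h1 i) (h1 j) : Matrix ι ι F) * rk _ _) *ᵥ z = (rk _ _ * (nS _ _ _ _ (h1 i) (h1 j) : Matrix ι ι F)) *ᵥ z
  simp only [← mulVec_mulVec, nS_mulVec _ _ (single_dot hij), rk_mulVec,
    dotProduct_add, dotProduct_sub, dotProduct_smul, h1, single_dot hij, single_dot hij.symm]
  module

theorem dgl_mulVec (i : ι) (u : Fˣ) (z : ι → F) :
    (dgl i u : GL ι F).1 *ᵥ z = z + (((u : F) - 1) * z i) • Pi.single i 1 := by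
  ext l
  rw [coe_dgl, mulVec_diagonal]
  by_cases h : l = i
  · subst h; simp; ring
  · simp [h]

theorem fix_graph {i j k : ι} (hij : i ≠ j) (hik : i ≠ k) (hjk : j ≠ k) (hs : s.Prime) {c : F} (hc : c ^ s = 1)
    (c1 : c ≠ 1) (g : GL ι F) :
    ∃ a : MulAut (ProjectiveSpecialLinearGroup ι F), (a : Out (ProjectiveSpecialLinearGroup ι F)) =
      (diagPSL ι F g * iotaPSL ι F : MulAut _) ∧ ∃ x, orderOf x = s ∧ a x = x := by
  have : Nontrivial ι := ⟨i, j, hij⟩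
  let a : Fˣ := Units.mk0 c fun e => by simp [e, hs.ne_zero] at hc
  have ha : a ^ s = 1 := Units.ext hc
  have hx : ∀ b : Fˣ, ∃ x : SpecialLinearGroup ι F, SpecialLinearGroup.toGL x = dgl i b * dgl j b⁻¹ := fun b =>
    mem_range_toGL.2 (by simp [det_dgl])
  obtain ⟨x, e⟩ := hx a
  obtain ⟨x', e'⟩ := hx a⁻¹
  have ev : ∀ z, (x : Matrix ι ι F) *ᵥ z = (dgl i a : GL ι F).1 *ᵥ ((dgl j a⁻¹ : GL ι F).1 *ᵥ z) := fun z => by
    rw [mulVec_mulVec, ← Units.val_mul, ← e]; rfl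
  have hP : (rk (Pi.single i 1 - Pi.single j 1 : ι → F) (Pi.single j 1 - Pi.single i 1)).det ≠ 0 := by
    rw [det_rk]; simp [hij, hij.symm]
  let P : GL ι F := GeneralLinearGroup.mkOfDetNeZero _ hP
  refine ⟨diagPSL ι F (P * dgl k ((GeneralLinearGroup.det P)⁻¹ * GeneralLinearGroup.det g)) * iotaPSL ι F, ?_,
    QuotientGroup.mk x, ord_mk hs (fun h => c1 ?_) (SpecialLinearGroup.toGL_injective ?_) (v := Pi.single k 1) (by simp)
      (by rw [ev, dgl_mulVec, dgl_mulVec]; simp [hik, hjk]), ?_⟩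
  · rw [QuotientGroup.mk_mul, QuotientGroup.mk_mul, diag_eq_of_det (h := g) (by simp [det_dgl])]
  · have := congrFun (ev (Pi.single i 1)) i
    rw [dgl_mulVec, dgl_mulVec, h] at this
    simpa [hij, hij.symm, a, sub_eq_zero] using this.symm
  · have hcm : Commute (dgl i a : GL ι F) (dgl j a⁻¹) := Units.ext (by
      rw [Units.val_mul, Units.val_mul, coe_dgl, coe_dgl]; exact (commute_diagonal _ _).eq)
    rw [map_pow, e, hcm.mul_pow, ← map_pow, ← map_pow, inv_pow, ha]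
    simp
  · rw [MulAut.mul_apply, iotaPSL_mk (x' := x') (by rw [e, e', map_mul, invT_dgl, invT_dgl])]
    refine diagPSL_mk (eq_mul_inv_of_mul_eq (Units.ext (mext fun z => ?_)))
    rw [e, e']
    generalize (GeneralLinearGroup.det P)⁻¹ * GeneralLinearGroup.det g = l
    have eP : P.1 = rk (Pi.single i 1 - Pi.single j 1 : ι → F) (Pi.single j 1 - Pi.single i 1) := rfl
    simp only [Units.val_mul, ← mulVec_mulVec, dgl_mulVec, eP, rk_mulVec]
    ext l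
    simp [hij, hij.symm, hik, hik.symm, hjk, hjk.symm]
    ring

theorem dvd_card_PSL (i : ι) {t : ℕ} (ht : t.Prime) (hle : t ≤ Fintype.card ι) (h2 : t ≠ 2) :
    t ∣ Nat.card (ProjectiveSpecialLinearGroup ι F) := by
  have := Fact.mk ht
  obtain ⟨π, hπ⟩ := exists_prime_orderOf_dvd_card' (G := Equiv.Perm ι) t (by
    rw [Nat.card_perm, Nat.card_eq_fintype_card]
    exact ht.dvd_factorial.2 hle)
  have hπt : π ^ t = 1 := hπ ▸ pow_orderOf_eq_one π
  have hsign : Equiv.Perm.sign π = 1 := by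
    have := congrArg Equiv.Perm.sign hπt
    rw [map_pow, map_one] at this
    rcases Int.units_eq_one_or (Equiv.Perm.sign π) with h | h
    · exact h
    · rw [h, (ht.odd_of_ne_two h2).neg_one_pow] at this
      exact absurd this (by decide)
  let M : Matrix ι ι F := permMatrixHom π
  have hM : ∀ v, M *ᵥ v = v ∘ ⇑π⁻¹ := fun v => permMatrix_mulVec _
  let x : SpecialLinearGroup ι F := ⟨M, by
    change det (Equiv.Perm.permMatrix F π⁻¹) = 1
    rw [det_permutation, map_inv, hsign]; simp⟩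
  refine (ord_mk ht (x := x) (fun e => ?_) (Subtype.ext ?_) (v := fun _ => 1) (fun e => one_ne_zero (congrFun e i))
    (hM _)) ▸ orderOf_dvd_natCard _
  · have e1 : M = 1 := congrArg Subtype.val e
    refine ht.one_lt.ne' (hπ ▸ orderOf_eq_one_iff.2 (inv_eq_one.1 (Equiv.ext fun i => ?_)))
    have := congrFun (hM (Pi.single i 1)) i
    rw [e1, one_mulVec, Pi.single_eq_same, Function.comp_apply] at this
    by_contra hne
    rw [Pi.single_eq_of_ne (show π⁻¹ i ≠ i from hne)] at this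
    exact one_ne_zero this
  · change M ^ t = 1
    rw [← map_pow, hπt, map_one]

theorem exists_out_psl [Nontrivial ι] {K : Type*} [Group K] (χ : MulAut (ProjectiveSpecialLinearGroup ι F) →* K)
    (h1 : Function.Surjective χ) (h2 : χ.ker = (diagPSL ι F).range) :
    ∃ φ : Out (ProjectiveSpecialLinearGroup ι F) →* K, (∀ a, φ (QuotientGroup.mk a) = χ a) ∧
      (∀ y ∈ φ.ker, ∃ g, y = (diagPSL ι F g : MulAut _)) ∧
      Nat.card φ.ker = Nat.gcd (Fintype.card ι) (Nat.card F - 1) := by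
  obtain ⟨φ, -, k0, k2, k3⟩ := exists_out_hom χ h1 (diagPSL ι F) (h2 ▸ inn_le_range_diagPSL)
    (fun g => h2 ▸ ⟨g, rfl⟩) (fun d hd => by
      rw [h2] at hd
      obtain ⟨g, rfl⟩ := hd
      exact ⟨g, by simp⟩)
  exact ⟨φ, k0, fun y hy => let ⟨g, hg⟩ := k2 ▸ hy; ⟨g, hg.symm⟩, by rw [k3, index_comap_inn_diagPSL]⟩

theorem dat_three (hn : 3 ≤ Fintype.card ι) : Dat (ProjectiveSpecialLinearGroup ι F) := by
  obtain ⟨i, j, k, hij, hik, hjk⟩ := Fintype.two_lt_card_iff.1 hn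
  have : Nontrivial ι := ⟨i, j, hij⟩
  obtain ⟨χ, h1, h2, -, h4⟩ := exists_chi_three (F := F) hn
  obtain ⟨φ, k0, k1, k2⟩ := exists_out_psl χ h1 h2
  have := isCyclic_ringAut (F := F)
  have d2 : 2 ∣ Nat.card (ProjectiveSpecialLinearGroup ι F) :=
    let ⟨_, hx, _⟩ := exists_good (F := F) hij hik hjk Nat.prime_two (.inl rfl); hx ▸ orderOf_dvd_natCard _
  have key : ∀ y ∈ φ.ker, y ≠ 1 → ∀ Y : Subgroup (Out _), y ∈ Y → ∀ s : ℕ, s.Prime →
      ¬ SylCyc (ProjectiveSpecialLinearGroup ι F) s → Fix _ Y s := fun y hy y1 Y hY s hs hc => by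
    obtain ⟨g, rfl⟩ := k1 y hy
    obtain ⟨a, ha, hx⟩ := fix_diag hij hik hjk hs hc g
    exact ⟨a, ha ▸ hY, ha ▸ y1, hx⟩
  refine Dat.of_hom φ (fun a b => Prod.ext (ringAut_mul_comm _ _) (mul_comm _ _)) d2 (fun t ht hle => ?_)
    (fun Y hY hc s hs s2 _ => or_iff_not_imp_left.2 fun hsc => ?_) fun y hy r hr _ ho s hs _ _ =>
      or_iff_not_imp_left.2 fun hsc => .inr
        (key y hy (fun e => hr.one_lt.ne' (by rw [← ho, e, orderOf_one])) _ (mem_zpowers y) s hs hsc)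
  · by_cases t2 : t = 2
    · exact t2 ▸ d2
    · exact dvd_card_PSL i ht (hle.trans (k2 ▸ Nat.gcd_le_left _ (by omega))) t2
  obtain ⟨y, y1, y2, y3⟩ := exists_mem_ker Nat.prime_two ((MonoidHom.fst _ _).comp φ) hY hc
  have y0 : y ≠ 1 := fun e => by simp [e] at y3
  rcases c2_cases (φ y).2 with h | h
  · exact .inr (key y (Prod.ext y2 h) y0 Y y1 s hs hsc)
  by_cases hp : (s : F) = 0
  · exact .inl (adj_char hij hik hjk hs s2 hp)
  by_cases hq : ∀ c : F, c ^ s = 1 → c = 1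
  · exact .inl (adj_of_not_dvd hs s2 hp hq hsc)
  push Not at hq
  obtain ⟨c, hc, c1⟩ := hq
  obtain ⟨g, hg⟩ := k1 (y * ((iotaPSL ι F : MulAut _) : Out _)⁻¹) (by
    rw [MonoidHom.mem_ker, map_mul, map_inv, k0, h4, mul_inv_eq_one]
    exact Prod.ext y2 h)
  obtain ⟨a, ha, hx⟩ := fix_graph hij hik hjk hs hc c1 g
  rw [QuotientGroup.mk_mul, ← hg, inv_mul_cancel_right] at ha
  exact .inr ⟨a, ha ▸ y1, ha ▸ y0, hx⟩

theorem sylCyc_two (hn : Fintype.card ι = 2) (hs : s.Prime) (h2 : s ≠ 2) (hF : (s : F) ≠ 0) :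
    SylCyc (ProjectiveSpecialLinearGroup ι F) s := by
  by_contra h
  obtain ⟨x, y, W, v, x1, -, -, xv, -, yv, hW, hW'⟩ := dec_SL hs h2 hF h
  have v0 : v ≠ 0 := fun e => yv (by simp [e])
  have h1 : ((x : Matrix ι ι F) - 1).det = 0 :=
    exists_mulVec_eq_zero_iff.1 ⟨v, v0, by rw [sub_mulVec, xv, one_mulVec, sub_self]⟩
  have h3 : ((x : Matrix ι ι F) - 1) * ((x : Matrix ι ι F) - 1) = 0 := by
    let e := Fintype.equivFinOfCardEq hn
    have k1 := h1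
    have k2 := x.2
    rw [← det_reindex_self e] at k1 k2
    apply (reindexAlgEquiv F F e).injective
    rw [map_mul, map_zero, map_sub, map_one]
    rw [← coe_reindexAlgEquiv F, map_sub, map_one] at k1
    rw [← coe_reindexAlgEquiv F] at k2
    generalize reindexAlgEquiv F F e x = A at k1 k2
    rw [det_fin_two] at k1 k2
    simp only [Matrix.sub_apply, one_apply_eq, ne_eq, zero_ne_one, not_false_eq_true, one_apply_ne, one_ne_zero, sub_zero] at k1
    ext a b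
    fin_cases a <;> fin_cases b <;> simp [mul_apply, Fin.sum_univ_two] <;> grind
  refine x1 (Subtype.ext (mext fun z => (sub_eq_zero.1 (hW _ ((hW' _).2 ⟨z, rfl⟩) ?_)).trans (one_mulVec z).symm))
  have := congrArg (· *ᵥ z) h3
  simp only [← mulVec_mulVec, sub_mulVec, one_mulVec, zero_mulVec] at this
  exact sub_eq_zero.1 this

theorem dat_two (hn : Fintype.card ι = 2) (d2 : 2 ∣ Nat.card (ProjectiveSpecialLinearGroup ι F)) :
    Dat (ProjectiveSpecialLinearGroup ι F) := by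
  obtain ⟨i, j, hij⟩ := Fintype.one_lt_card_iff.1 (hn ▸ one_lt_two)
  have : Nontrivial ι := ⟨i, j, hij⟩
  obtain ⟨χ, h1, h2, h3⟩ := exists_chi_two (F := F) hn
  obtain ⟨φ, k0, -, k2⟩ := exists_out_psl χ h1 h2
  have := isCyclic_ringAut (F := F)
  have hk : Nat.card φ.ker ∣ 2 := k2 ▸ hn ▸ Nat.gcd_dvd_left _ _
  refine Dat.of_hom φ (fun a b => ringAut_mul_comm _ _) d2 (fun t ht hle => ?_) (fun Y hY hc s hs s2 _ => ?_)
    fun y hy r hr r2 ho => absurd ((Nat.prime_dvd_prime_iff_eq hr Nat.prime_two).1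
      ((ho ▸ (orderOf_coe (⟨y, hy⟩ : φ.ker)).symm ▸ orderOf_dvd_natCard _ : r ∣ Nat.card φ.ker).trans hk)) r2
  · rwa [le_antisymm (hle.trans (Nat.le_of_dvd two_pos hk)) ht.two_le]
  by_cases hp : (s : F) = 0
  swap
  · exact .inl (sylCyc_two hn hs s2 hp)
  obtain ⟨δ, y1, y2, y3⟩ := exists_mem_ker Nat.prime_two φ hY hc
  have hz : zpowers δ = φ.ker := eq_of_le_of_card_ge (zpowers_le.2 y2)
    (by rw [Nat.card_zpowers, y3]; exact Nat.le_of_dvd two_pos hk)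
  obtain ⟨y, hy, hy'⟩ : ∃ y ∈ Y, y ∉ φ.ker := by
    by_contra! h
    exact hc (isCyclic_of_le (H' := zpowers δ) (hz ▸ h))
  have e : φ ((thetaPSL ι F (inr (φ y)) : MulAut _) : Out _) = φ y := by rw [k0, h3]; rfl
  refine .inr (.inr ⟨thetaPSL ι F (inr (φ y)), ?_, fun h => hy' ?_, _, ord_mk hs
    (x := tvS (Pi.single i 1) (Pi.single j 1) (single_dot hij.symm))
    (tvS_ne_one (w := Pi.single j 1) _ (by simp) (by simp)) (tvS_pow _ hp) (v := Pi.single i 1) (by simp)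
    (tvS_fix _ (single_dot hij.symm)), fieldPSL_mk (Units.ext ?_)⟩)
  · have : y⁻¹ * ((thetaPSL ι F (inr (φ y)) : MulAut _) : Out _) ∈ Y := (zpowers_le.2 y1 : zpowers δ ≤ Y)
      (hz ▸ (by rw [MonoidHom.mem_ker, map_mul, map_inv, e, inv_mul_cancel]))
    simpa using Y.mul_mem hy this
  · rw [MonoidHom.mem_ker, ← e, h, map_one]
  · rw [coe_glMap]
    ext a b
    change rk _ _ a b = φ y (rk _ _ a b)
    simp [rk, vecMulVec_apply, one_apply, Pi.single_apply, apply_ite (φ y)]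

theorem two_dvd_card_PSL_two : 2 ∣ Nat.card (ProjectiveSpecialLinearGroup (Fin 2) F) := by
  refine (orderOf_mk_eq (G := SpecialLinearGroup (Fin 2) F) Nat.prime_two (x := ⟨!![0, 1; -1, 0], by simp⟩)
    (Matrix.SpecialLinearGroup.mem_center_iff.2 ⟨-1, by simp, ?_⟩) fun h => ?_).symm.dvd.trans (orderOf_dvd_natCard _)
  · change _ = (!![0, 1; -1, 0] : Matrix (Fin 2) (Fin 2) F) ^ 2
    ext a b
    fin_cases a <;> fin_cases b <;> simp [sq]
  · obtain ⟨r, -, hr⟩ := Matrix.SpecialLinearGroup.mem_center_iff.1 h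
    simpa using congrFun (congrFun hr 0) 1

/-- The data for the linear groups. -/
theorem datPSL {p : ℕ} {G : Type*} [Group G] [Finite G] (h : IsPSLChar p G) (hc : ¬ IsCyclic (Out G)) : Dat G := by
  obtain ⟨F, _, _, -, n, hn, -, ⟨e⟩⟩ := h
  refine dat_of_equiv ⟨e⟩ (fun _ => ?_) hc
  rcases hn.eq_or_lt with rfl | h
  · exact dat_two (by simp) two_dvd_card_PSL_two
  · exact dat_three (by rw [Fintype.card_fin]; omega)

end Cfsg.Agent.H73.GK
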