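import Cfsg.Agent.H73.CVDefs

/-! # Project CV: the kit -/

set_option autoImplicit false
set_option linter.style.haveILetI false

namespace Cfsg.Agent.H73.CV

open Matrix Cfsg.Geo H26 H25
open H25.CU (qF hf subSU qF_eq hf_eq)
open H25.C6 hiding Fld Mod Bc Low Ar Tri StdStmt NrmStmt EsStmt GeoStmt TpStmt TvStmt OddStmt ZsStmt H3bStmt
  H3cStmt H3dStmt H3Stmt A1Stmt K0Stmt SwStmt PrimStmt RealStmt BigStmt SmallStmt ClsStmt A2Stmt CopStmt Tv5Stmt
  LiftStmt KbStmt KoddStmt UqStmt One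
open scoped MatrixGroups commutatorElement

universe u

section FldFacts

variable {F : Type u} [Field F] [Fintype F] {r n p : ℕ} {ω : Fˣ}

namespace Fld

variable (h : Fld r n p ω)
include h

theorem pow_r : ω ^ r = 1 := h.ord ▸ pow_orderOf_eq_one ω

theorem r_eq : r = 2 * n + 1 := by rcases h.rn with h | h <;> omega

theorem three_le : 3 ≤ n := by rcases h.rn with h | h <;> omega

theorem seven_le : 7 ≤ r := by rcases h.rn with h | h <;> omega

theorem prime_r : r.Prime := by rcases h.rn with ⟨rfl, -⟩ | ⟨rfl, -⟩ <;> norm_num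

theorem prime_n : n.Prime := by rcases h.rn with ⟨-, rfl⟩ | ⟨-, rfl⟩ <;> norm_num

theorem odd_r : Odd r := ⟨n, h.r_eq⟩

theorem odd_n : Odd n := by rcases h.rn with ⟨-, rfl⟩ | ⟨-, rfl⟩ <;> decide

theorem pow_eq_one_iff {k : ℕ} : ω ^ k = 1 ↔ r ∣ k := by rw [← orderOf_dvd_iff_pow_eq_one, h.ord]

theorem ne_one : ω ≠ 1 := fun e => h.prime_r.one_lt.ne' (by rw [← h.ord, e, orderOf_one])

theorem mod_ne : p % r ≠ 0 := by
  have := h.card
  have := h.r11
  subst this
  omega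

theorem p_ne : p ≠ r := fun e => h.mod_ne (by simp [e])

theorem cast_ne : (r : F) ≠ 0 := fun e => by
  haveI := h.char
  exact h.p_ne ((Nat.prime_dvd_prime_iff_eq h.prime h.prime_r).1 ((CharP.cast_eq_zero_iff F p r).1 e))

theorem two_ne (hp : p ≠ 2) : (2 : F) ≠ 0 := fun e => by
  haveI := h.char
  exact hp ((Nat.prime_dvd_prime_iff_eq h.prime Nat.prime_two).1
    ((CharP.cast_eq_zero_iff F p 2).1 (by exact_mod_cast e)))

theorem two_eq (hp : p = 2) : (2 : F) = 0 := by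
  haveI := h.char
  subst hp
  exact_mod_cast CharP.cast_eq_zero F 2

theorem n5 : n = 5 := by have := h.rn; have := h.r11; omega

theorem pr : r = 11 ∧ (p % 11 = 2 ∨ p % 11 = 6 ∨ p % 11 = 7 ∨ p % 11 = 8 ∨ p % 11 = 10) := by
  have := h.card; have := h.r11; omega

theorem inv : Fld r n p ω⁻¹ := ⟨h.rn, h.r11, h.prime, h.char, h.card, by rw [orderOf_inv, h.ord]⟩

theorem q_cases : (qF F = p ∧ p % 11 = 10) ∨
    (qF F = p ^ 5 ∧ (p % 11 = 2 ∨ p % 11 = 6 ∨ p % 11 = 7 ∨ p % 11 = 8)) :=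
  h.card.imp (And.imp_left qF_eq) (And.imp_left fun e => qF_eq (by rw [e, ← pow_mul]))

theorem card_eq : Fintype.card F = qF F ^ 2 := by
  rcases h.card with ⟨e, -⟩ | ⟨e, -⟩
  · rw [qF_eq e, e]
  · rw [qF_eq (q := p ^ 5) (by rw [e, ← pow_mul]), e, ← pow_mul]

theorem q_mod : qF F % 11 = 10 := by
  rcases h.q_cases with ⟨e, k⟩ | ⟨e, k | k | k | k⟩ <;> rw [e]
  · exact k
  all_goals rw [Nat.pow_mod, k]

theorem pow_q : ω ^ qF F = ω⁻¹ := by
  rw [eq_inv_iff_mul_eq_one, ← pow_succ, h.pow_eq_one_iff, h.r11]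
  have := h.q_mod
  omega

theorem of_two (hp : p = 2) : Fintype.card F = 1024 ∧ qF F = 32 := by
  subst hp
  exact ⟨(h.card.resolve_left (by omega)).1, (h.q_cases.resolve_left (by omega)).1⟩

theorem eq_two (h2 : (2 : F) = 0) : p = 2 := by_contra fun e => h.two_ne e h2

theorem odd_q (hp : p ≠ 2) : Odd (qF F) := by
  have h1 := h.prime.odd_of_ne_two hp
  rcases h.q_cases with ⟨e, -⟩ | ⟨e, -⟩ <;> rw [e]
  exacts [h1, h1.pow]

/-- the field involution -/
theorem exists_frob : ∃ σ : F →+* F, ∀ x, σ x = x ^ qF F := by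
  haveI := h.char
  haveI := Fact.mk h.prime
  rcases h.q_cases with ⟨e, -⟩ | ⟨e, -⟩ <;> rw [e]
  exacts [⟨frobenius F p, fun _ => rfl⟩, ⟨iterateFrobenius F p 5, fun _ => rfl⟩]

theorem neg_pow_q (x : F) : (-x) ^ qF F = -x ^ qF F := by
  obtain ⟨σ, hσ⟩ := h.exists_frob
  rw [← hσ, ← hσ, map_neg]

theorem add_pow_q (x y : F) : (x + y) ^ qF F = x ^ qF F + y ^ qF F := by
  obtain ⟨σ, hσ⟩ := h.exists_frob
  rw [← hσ, ← hσ, ← hσ, map_add]

theorem card_sub {F₁ : Subfield F} (h1 : F₁ ≠ ⊤) :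
    Nat.card F₁ = p ∨ (Fintype.card F = p ^ 10 ∧
      (p % 11 = 2 ∨ p % 11 = 6 ∨ p % 11 = 7 ∨ p % 11 = 8) ∧
      (Nat.card F₁ = p ^ 2 ∨ Nat.card F₁ = p ^ 5)) := by
  haveI := h.char
  haveI := Fact.mk h.prime
  haveI := Fintype.ofFinite F₁
  obtain ⟨d, -, hd⟩ := FiniteField.card F₁ p
  have h2 := Module.natCard_eq_pow_finrank (K := F₁) (V := F)
  have h3 : Module.finrank F₁ F ≠ 1 := fun e => h1 (by
    rw [eq_top_iff]
    intro x _
    have := (Subalgebra.bot_eq_top_iff_finrank_eq_one.2 e).ge (Algebra.mem_top (x := x))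
    obtain ⟨y, rfl⟩ := Algebra.mem_bot.1 this
    exact y.2)
  rw [Nat.card_eq_fintype_card, Nat.card_eq_fintype_card, hd, ← pow_mul] at h2
  rw [Nat.card_eq_fintype_card, hd]
  have h0 := d.pos
  generalize (d : ℕ) = d at *
  generalize Module.finrank F₁ F = m at *
  rcases h.card with ⟨e, -⟩ | ⟨e, k⟩
  · have := Nat.pow_right_injective h.prime.two_le (e.symm.trans h2)
    have h4 := Nat.le_of_dvd two_pos (Dvd.intro _ this.symm)
    interval_cases d
    · exact Or.inl (pow_one p)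
    · omega
  · have := Nat.pow_right_injective h.prime.two_le (e.symm.trans h2)
    have h4 := Nat.le_of_dvd (by norm_num) (Dvd.intro _ this.symm)
    interval_cases d
    · exact Or.inl (pow_one p)
    · exact Or.inr ⟨e, k, Or.inl rfl⟩
    · omega
    · omega
    · exact Or.inr ⟨e, k, Or.inr rfl⟩
    all_goals omega

theorem not_mem_subfield {F₁ : Subfield F} (h1 : F₁ ≠ ⊤) : (ω : F) ∉ F₁ := fun e => by
  haveI := Fintype.ofFinite F₁
  have h2 := FiniteField.pow_card (⟨ω, e⟩ : F₁)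
  have h3 : ω ^ Nat.card F₁ = ω ^ 1 := Units.ext (by
    simpa [Nat.card_eq_fintype_card] using congrArg Subtype.val h2)
  have h4 := pow_eq_pow_iff_modEq.1 h3
  rw [h.ord, h.r11, Nat.ModEq] at h4
  have := h.pr
  rcases h.card_sub h1 with k | ⟨-, k | k | k | k, k' | k'⟩
  · omega
  all_goals rw [k', Nat.pow_mod, k] at h4; omega

variable [Fact r.Prime]

theorem ch_inj : Function.Injective (ch ω : ZMod r → Fˣ) := fun i j e =>
  ZMod.val_injective r (pow_injOn_Iio_orderOf (by rw [h.ord]; exact i.val_lt)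
    (by rw [h.ord]; exact j.val_lt) e)

theorem ch_eq_one {i : ZMod r} : ch ω i = 1 ↔ i = 0 := by
  rw [← ch_zero (r := r) (ω := ω), h.ch_inj.eq_iff]

/-- the `r`-th roots of unity -/
theorem root {c : Fˣ} (hc : c ^ r = 1) : ∃ i : ZMod r, c = ch ω i := by
  have h1 : IsPrimitiveRoot ω r := h.ord ▸ IsPrimitiveRoot.orderOf ω
  obtain ⟨i, -, rfl⟩ := h1.eq_pow_of_mem_rootsOfUnity (ξ := c) hc
  exact ⟨i, (ch_nat h.pow_r i).symm⟩

theorem sum_ch (a : ZMod r) : ∑ i, (ch ω (a * i) : F) = if a = 0 then (r : F) else 0 := by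
  split_ifs with e
  · simp [e, ch_zero]
  · have h1 : ∑ i, (ch ω (a * i) : F) = ∑ i, (ch ω (a * (i + 1)) : F) :=
      (Equiv.sum_comp (Equiv.addRight 1) fun i => (ch ω (a * i) : F)).symm
    simp only [mul_add, mul_one, ch_add h.pow_r, Units.val_mul, ← Finset.sum_mul] at h1
    exact (mul_eq_zero.1 (by linear_combination -h1 :
      (∑ i, (ch ω (a * i) : F)) * (ch ω a - 1) = 0)).resolve_right
      (sub_ne_zero.2 fun e' => e (h.ch_eq_one.1 (Units.ext e')))

omit [Field F] [Fintype F] h in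
theorem cast_ne_zmod {k : ℕ} (h0 : 0 < k) (h1 : k < r) : (k : ZMod r) ≠ 0 := fun e =>
  absurd (Nat.le_of_dvd h0 ((ZMod.natCast_eq_zero_iff k r).1 e)) (by omega)

theorem two_ne_zmod : (2 : ZMod r) ≠ 0 := by
  exact_mod_cast cast_ne_zmod two_pos (by have := h.seven_le; omega)

theorem neg_ne {i : ZMod r} (hi : i ≠ 0) : -i ≠ i := fun e =>
  mul_ne_zero h.two_ne_zmod hi (by linear_combination -e)

theorem mW_mul_self : mW r ω * mW r ω = (r : F) • (gT r F).1 := by
  ext i j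
  simp only [mul_apply, mW_apply, ← Units.val_mul, ← ch_add h.pow_r, mul_comm _ j, ← add_mul,
    h.sum_ch, gT, coe_gP, Matrix.smul_apply, pm_apply, Equiv.neg_apply, eq_neg_iff_add_eq_zero]
  split_ifs <;> simp

theorem coe_gW : (gW r ω).1 = mW r ω := by
  have : IsUnit (mW r ω) := isUnit_of_mul_isUnit_left (by
    rw [h.mW_mul_self]
    exact (gT r F).isUnit.smul (Units.mk0 _ h.cast_ne))
  simp [gW, this]

theorem gW_mul_self : gW r ω * gW r ω = scal _ (Units.mk0 _ h.cast_ne) * gT r F :=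
  Units.ext (by simp [h.coe_gW, h.mW_mul_self, coe_scal])

theorem gW_mul_gY : gW r ω * gY r F = gX r ω * gW r ω :=
  Units.ext (by simp only [Units.val_mul, h.coe_gW, mW_mul_Y h.pow_r])

theorem gW_mul_gX : gW r ω * gX r ω = (gY r F)⁻¹ * gW r ω :=
  eq_inv_mul_of_mul_eq (Units.ext (by simp only [Units.val_mul, h.coe_gW, Y_mul_mW_mul_X h.pow_r]))

theorem commute_W_T : Commute (gW r ω) (gT r F) :=
  Units.ext (by simp only [Units.val_mul, h.coe_gW, mW_mul_T])

theorem gT_not_mem_scalars : gT r F ∉ scalars (ZMod r) F := gP_not_mem_scalars fun e =>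
  h.neg_ne one_ne_zero (congrArg (fun σ : Equiv.Perm (ZMod r) => σ 1) e)

theorem tr_gT : H25.tr (gT r F) = 1 := by
  have : ∀ i : ZMod r, i = -i ↔ i = 0 := fun i =>
    ⟨fun e => by_contra fun e' => h.neg_ne e' e.symm, fun e => by simp [e]⟩
  simp [H25.tr, trace, gT, coe_gP, pm_apply, this]

theorem gX_pow_mem_scalars {k : ℕ} : gX r ω ^ k ∈ scalars (ZMod r) F ↔ r ∣ k := by
  rw [gX_eq, ← map_pow, gD_mem_scalars]
  refine ⟨fun H => h.pow_eq_one_iff.1 ?_, fun ⟨m, e⟩ i j => ?_⟩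
  · simpa [ch_one h.pow_r, ch_zero] using H 1 0
  · simp [e, pow_mul, ch_pow h.pow_r]

theorem not_commute_X_Y : ¬ Commute (gX r ω) (gY r F) := fun e => h.ne_one (scal_injective
  (ι := ZMod r) (by simpa [e.eq] using (gX_mul_gY h.pow_r).symm))

theorem scal_mem_R0 : scal _ ω ∈ R0 r ω := by
  have hx : gX r ω ∈ R0 r ω := Subgroup.subset_closure (by simp)
  have hy : gY r F ∈ R0 r ω := Subgroup.subset_closure (by simp)
  have := mul_mem (mul_mem hx hy) (inv_mem (mul_mem hy hx))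
  rwa [gX_mul_gY h.pow_r, mul_inv_cancel_right] at this

/-- an element commuting with `X` and `Y` is scalar -/
theorem mem_scalars_of_commute {g : GL (ZMod r) F} (hx : Commute g (gX r ω))
    (hy : Commute g (gY r F)) : g ∈ scalars (ZMod r) F := by
  obtain ⟨d, rfl⟩ := exists_gD_of_commute h.ch_inj hx
  have h1 : ∀ k : ℕ, d k = d 0 := fun k => by
    have := (hy.pow_right k).eq
    rw [gY_pow, gP_mul_gD, mul_left_inj] at this
    simpa using congrFun (gD_injective this) k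
  exact gD_mem_scalars.2 fun i j => by
    rw [← ZMod.natCast_zmod_val i, ← ZMod.natCast_zmod_val j, h1, h1]

end Fld

end FldFacts

section Model

variable {F : Type u} [Field F] [Fintype F] {r n p : ℕ} [Fact r.Prime] {ω : Fˣ}
  {G : Subgroup (GL (ZMod r) F)}

theorem key (h : Gen ω G) (hF : Fld r n p ω) {K : Subgroup (GL (ZMod r) F)} (hK : NB G K)
    (hZ : scalars (ZMod r) F ≤ K) {i j : ZMod r} (hij : i ≠ 0 ∨ j ≠ 0)
    (hm : gX r ω ^ i.val * gY r F ^ j.val ∈ K) : gX r ω ∈ K ∧ gY r F ∈ K := by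
  have e := hF.pow_r
  have k1 : ∀ a : ZMod r, a ≠ 0 → gD (fun i => ch ω (i * a)) ∈ K → gX r ω ∈ K := fun a ha H => by
    have := pow_mem H a⁻¹.val
    rw [← map_pow] at this
    rw [gX_eq]
    convert this using 2
    funext i
    simp [← ch_mul e, ha]
  have k2 : gX r ω ∈ K := by
    by_cases hj : j = 0
    · refine k1 i (hij.resolve_right (by simpa)) ?_
      rw [hj, ZMod.val_zero, pow_zero, mul_one, gX_eq, ← map_pow] at hm
      convert hm using 2
      funext k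
      simp [ch_mul e]
    · have h1 := mul_mem (mul_mem (hK _ h.u _ hm) (inv_mem hm)) (hZ (H25.scal_mem (ch ω (j * j))))
      refine k1 (2 * j) (mul_ne_zero hF.two_ne_zmod hj) ?_
      convert h1 using 1
      rw [gY_pow, gX_eq, gU_eq, ← map_pow, ← map_inv, ← gD_const, ← mul_assoc, mul_assoc _ (gP F _),
        gP_mul_gD, ← mul_assoc, _root_.mul_inv_rev, ← mul_assoc, mul_inv_cancel_right, ← map_inv,
        ← map_mul, ← map_mul, ← map_mul, ← map_mul]
      congr 1
      funext k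
      simp only [Pi.mul_apply, Pi.inv_apply, Pi.pow_apply, ← ch_mul e, ← ch_neg e, ← ch_add e]
      congr 1
      simp
      ring
  refine ⟨k2, inv_mem_iff.1 ?_⟩
  have := hK _ h.w _ k2
  rwa [hF.gW_mul_gX, mul_inv_cancel_right] at this

theorem Fld.galg_R0 (h : Fld r n p ω) : galg (R0 r ω) = ⊤ := by
  have hx : gX r ω ∈ R0 r ω := Subgroup.subset_closure (by simp)
  have hy : gY r F ∈ R0 r ω := Subgroup.subset_closure (by simp)
  have key : ∀ (i j : ZMod r) (c : F), single i j c = (c * (r : F)⁻¹) • ((gY r F ^ (i - j).val).1 *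
      ∑ k : ZMod r, (ch ω (-j * k) : F) • (gX r ω ^ k.val).1) := fun i j c => by
    ext a b
    rw [gY_pow, coe_gP, Matrix.smul_apply, pm_mul_apply, Matrix.sum_apply]
    simp only [gX_eq, ← map_pow, coe_gD, Matrix.smul_apply, diagonal_apply, Pi.pow_apply,
      ← ch_mul h.pow_r, smul_eq_mul, mul_ite, mul_zero, ← Units.val_mul, ← ch_add h.pow_r, ← add_mul,
      Finset.sum_ite_irrel, h.sum_ch, Finset.sum_const_zero, ZMod.natCast_zmod_val]
    by_cases e : i = a
    · by_cases e' : j = b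
      · simp [e, e', h.cast_ne]
      · simp [e, e']
    · have : ¬ -j + (a + (j - i)) = 0 := fun e' => e (by linear_combination -e')
      simp [e, this]
  refine eq_top_iff.2 fun A _ => ?_
  rw [matrix_eq_sum_single A]
  refine sum_mem fun i _ => sum_mem fun j _ => ?_
  rw [key]
  exact Subalgebra.smul_mem _ (mul_mem (coe_mem_galg (pow_mem hy _)) (sum_mem fun k _ =>
    Subalgebra.smul_mem _ (coe_mem_galg (pow_mem hx _)) _)) _

theorem Fld.irr_R0 (h : Fld r n p ω) : Irr (R0 r ω) := irr_of_galg_eq_top h.galg_R0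

namespace Fld

variable (h : Fld r n p ω)
include h

theorem succ_ne_zero (k : Fin n) : (((k : ℕ) + 1 : ℕ) : ZMod r) ≠ 0 :=
  cast_ne_zmod k.1.succ_pos (by have := h.r_eq; omega)

theorem succ_ne_neg (k l : Fin n) : (((k : ℕ) + 1 : ℕ) : ZMod r) ≠ -(((l : ℕ) + 1 : ℕ) : ZMod r) :=
  fun e => cast_ne_zmod (r := r) (k := k + 1 + (l + 1)) (by omega) (by have := h.r_eq; omega)
    (by rw [Nat.cast_add, e, neg_add_cancel])

theorem succ_inj {k l : Fin n} :
    (((k : ℕ) + 1 : ℕ) : ZMod r) = (((l : ℕ) + 1 : ℕ) : ZMod r) ↔ k = l := by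
  have := h.r_eq
  rw [ZMod.natCast_eq_natCast_iff', Nat.mod_eq_of_lt (by omega), Nat.mod_eq_of_lt (by omega),
    Fin.ext_iff]
  omega

theorem exists_succ {i : ZMod r} (hi : i ≠ 0) : ∃ k : Fin n,
    i = (((k : ℕ) + 1 : ℕ) : ZMod r) ∨ i = -(((k : ℕ) + 1 : ℕ) : ZMod r) := by
  have h1 := h.r_eq
  have h2 := i.val_lt
  have h3 : i.val ≠ 0 := by simpa using hi
  by_cases e : i.val ≤ n
  · exact ⟨⟨i.val - 1, by omega⟩, Or.inl (by
      rw [Nat.sub_add_cancel (by omega), ZMod.natCast_zmod_val])⟩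
  · refine ⟨⟨r - i.val - 1, by omega⟩, Or.inr ?_⟩
    rw [Nat.sub_add_cancel (by omega), Nat.cast_sub h2.le]
    simp

theorem mF_mul_mE : mF r n F * mE r n F = 1 := by
  ext k l
  simp only [mul_apply, mF, mE, of_apply, ite_mul, one_mul, zero_mul, Finset.sum_ite_eq',
    Finset.mem_univ, if_true, h.succ_inj, h.succ_ne_neg, one_apply, if_false, sub_zero]

omit h in
omit [Fintype F] in
theorem gT_mul_mE : (gT r F).1 * mE r n F = -mE r n F := by
  ext i k
  simp [gT, coe_gP, pm_mul_apply, mE, neg_eq_iff_eq_neg]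

/-- `E F J = J` -/
theorem mE_mul_mF_mul_mJ : mE r n F * (mF r n F * mJ r F) = mJ r F := by
  ext i j
  have h1 : ∀ k : Fin n, (mF r n F * mJ r F) k j = mJ r F (((k : ℕ) + 1 : ℕ) : ZMod r) j := fun k => by
    simp [mul_apply, mF]
  have h2 : ∀ i, mJ r F (-i) j = -mJ r F i j := fun i => by
    simp [mJ, gT, coe_gP, pm_apply, one_apply, neg_eq_iff_eq_neg]
  rw [mul_apply]
  simp only [h1]
  simp only [mE, of_apply, sub_mul, ite_mul, one_mul, zero_mul,
    Finset.sum_sub_distrib]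
  by_cases hi : i = 0
  · simp only [hi, (h.succ_ne_zero _).symm, zero_eq_neg, h.succ_ne_zero, if_false]
    simp [mJ, gT, coe_gP, pm_apply, one_apply, eq_comm]
  · obtain ⟨k, rfl | rfl⟩ := h.exists_succ hi
    · simp only [h.succ_inj, h.succ_ne_neg, if_false]
      simp
    · simp only [neg_inj, h.succ_inj, (h.succ_ne_neg _ _).symm, if_false, h2]
      simp

theorem mE_cancel {κ : Type} {A B : Matrix (Fin n) κ F} (e : mE r n F * A = mE r n F * B) :
    A = B := by
  have := congrArg (mF r n F * ·) e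
  simpa [← Matrix.mul_assoc, h.mF_mul_mE] using this

theorem rho_unique {g : GL (ZMod r) F} {A B : GL (Fin n) F} (h1 : Rho g A) (h2 : Rho g B) : A = B :=
  Units.ext (h.mE_cancel (h1.symm.trans h2))

omit [Fintype F] h in
/-- The image of `E` is the image of `J`. -/
theorem mE_eq : mE r n F = -(mJ r F * (mF r n F)ᵀ) := by
  ext i k
  simp [mul_apply, mF, mE, mJ, gT, coe_gP, pm_apply, one_apply]

theorem mul_mE {g : Matrix (ZMod r) (ZMod r) F} (hg : Commute g (gT r F).1) :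
    g * mE r n F = mE r n F * (mF r n F * g * mE r n F) := by
  have h1 : g * mE r n F = -(mJ r F * (g * (mF r n F)ᵀ)) := by
    rw [mE_eq, Matrix.mul_neg, ← Matrix.mul_assoc, ← Matrix.mul_assoc,
      show g * mJ r F = mJ r F * g from (hg.sub_right (Commute.one_right g)).eq]
  rw [Matrix.mul_assoc, h1, Matrix.mul_neg, Matrix.mul_neg, ← Matrix.mul_assoc (mF r n F),
    ← Matrix.mul_assoc (mE r n F), h.mE_mul_mF_mul_mJ]

theorem exists_rho {g : GL (ZMod r) F} (hg : Commute g (gT r F)) : ∃ A : GL (Fin n) F, Rho g A := by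
  have h1 := h.mul_mE (Commute.map hg (Units.coeHom _))
  have h2 := h.mul_mE (Commute.map hg.inv_left (Units.coeHom _))
  simp only [Units.coeHom_apply] at h1 h2
  refine ⟨glOf (mF r n F * g.1 * mE r n F) (mF r n F * (g⁻¹).1 * mE r n F) ?_, h1⟩
  rw [Matrix.mul_assoc _ (mE r n F), ← h2, Matrix.mul_assoc, ← Matrix.mul_assoc g.1, Units.mul_inv,
    Matrix.one_mul, h.mF_mul_mE]

theorem rho_coe {g : GL (ZMod r) F} {A : GL (Fin n) F} (h1 : Rho g A) :
    A.1 = mF r n F * g.1 * mE r n F := by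
  rw [Matrix.mul_assoc, h1, ← Matrix.mul_assoc, h.mF_mul_mE, Matrix.one_mul]

/-- `L g = ρ(g) L` for `L = F J` -/
theorem mL_mul {g : GL (ZMod r) F} (hg : Commute g (gT r F)) {A : GL (Fin n) F} (h1 : Rho g A) :
    mF r n F * mJ r F * g.1 = A.1 * (mF r n F * mJ r F) := h.mE_cancel (by
  rw [← Matrix.mul_assoc, h.mE_mul_mF_mul_mJ, ← Matrix.mul_assoc, ← h1, Matrix.mul_assoc,
    h.mE_mul_mF_mul_mJ]
  exact ((Commute.map hg (Units.coeHom _)).sub_right (Commute.one_right _)).eq.symm)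

omit h in
omit [Fintype F] in
theorem rho_gD {d : ZMod r → Fˣ} (hd : ∀ i, d (-i) = d i) :
    Rho (gD d) (gD fun k : Fin n => d (((k : ℕ) + 1 : ℕ) : ZMod r)) := by
  ext i k
  simp only [coe_gD, mul_diagonal, diagonal_mul, mE, of_apply]
  split_ifs with h1 h2 h2
  · rw [h1, mul_comm]
  · rw [h1, mul_comm]
  · rw [h2, hd, mul_comm]
  · simp

omit h in
omit [Fintype F] in
theorem rho_scal (c : Fˣ) : Rho (scal (ZMod r) c) (scal (Fin n) c) := by simp [Rho, coe_scal]

omit h in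
omit [Fintype F] in
theorem rho_T : Rho (gT r F) (scal (Fin n) (-1)) := by simp [Rho, coe_scal, gT_mul_mE]

theorem rho_U : Rho (gU r ω) (uB n ω) := by
  have := rho_gD (n := n) (d := fun i : ZMod r => ch ω (i * i)) (by simp)
  simp only [← Nat.cast_mul, ch_nat h.pow_r] at this
  exact this

theorem rho_W {A : GL (Fin n) F} (hA : Rho (gW r ω) A) : A.1 = wB n ω := by
  rw [h.rho_coe hA, h.coe_gW]
  ext k l
  simp only [mul_apply, mF, mE, of_apply, ite_mul, one_mul, zero_mul, Finset.sum_ite_eq',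
    Finset.mem_univ, if_true, mul_sub, mul_ite, mul_one, mul_zero, Finset.sum_sub_distrib, mW_apply,
    wB, mul_neg, ← Nat.cast_mul, ← ch_inv h.pow_r, ch_nat h.pow_r, ch_nat h.inv.pow_r]

theorem sq_inj {k l : Fin n} (e : ω ^ (((k : ℕ) + 1) * ((k : ℕ) + 1)) =
    ω ^ (((l : ℕ) + 1) * ((l : ℕ) + 1))) : k = l := by
  rw [← ch_nat h.pow_r, ← ch_nat h.pow_r, h.ch_inj.eq_iff, Nat.cast_mul, Nat.cast_mul,
    mul_self_eq_mul_self_iff] at e
  exact h.succ_inj.1 (e.resolve_right (h.succ_ne_neg k l))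

theorem wB_ne_zero (k l : Fin n) : wB n ω k l ≠ 0 := fun e => by
  have e' := Units.ext (sub_eq_zero.1 e)
  rw [← ch_nat h.pow_r, ← ch_nat h.inv.pow_r, ch_inv h.pow_r, h.ch_inj.eq_iff, Nat.cast_mul] at e'
  exact h.neg_ne (mul_ne_zero (h.succ_ne_zero k) (h.succ_ne_zero l)) e'.symm

end Fld

theorem Fld.hf_mE (h : Fld r n p ω) (u : Fin n → F) (y : ZMod r → F) :
    hf (ZMod r) F (mE r n F *ᵥ u) y = hf (Fin n) F u ((mE r n F)ᵀ *ᵥ y) := by
  obtain ⟨σ, hσ⟩ := h.exists_frob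
  have h1 : ∀ i k, σ (mE r n F i k) = mE r n F i k := fun i k => by
    simp only [mE, of_apply, map_sub, apply_ite σ, map_one, map_zero]
  simp only [hf, ← hσ, mulVec, dotProduct, map_sum, map_mul, transpose_apply, h1, Finset.sum_mul,
    Finset.mul_sum]
  rw [Finset.sum_comm]
  exact Finset.sum_congr rfl fun k _ => Finset.sum_congr rfl fun i _ => by ring

omit [Fintype F] in
theorem mE_transpose : (mE r n F)ᵀ = -(mF r n F * mJ r F) := by
  ext k i
  simp [mul_apply, mF, mE, mJ, gT, coe_gP, pm_apply, one_apply, eq_comm, neg_eq_iff_eq_neg]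

theorem Fld.mET_mul_mFT (h : Fld r n p ω) : (mE r n F)ᵀ * (mF r n F)ᵀ = 1 := by
  rw [← transpose_mul, h.mF_mul_mE, transpose_one]

theorem Mod.low (h : Mod n p ω G) : Low r p ω (Hm n G) where
  fld := h.fld
  z := fun _ hz => by
    obtain ⟨c, rfl⟩ := mem_scalars_iff_scal.1 hz
    exact ⟨_, h.scal_mem c, (commute_scal c _).symm, Fld.rho_scal c⟩
  u := ⟨_, h.u, commute_U_T, h.fld.rho_U⟩
  w := by
    obtain ⟨A, hA⟩ := h.fld.exists_rho h.fld.commute_W_T
    exact ⟨A, ⟨_, h.w, h.fld.commute_W_T, hA⟩, h.fld.rho_W hA⟩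
  uni := by
    rintro A ⟨g, hg, hT, hA⟩
    obtain ⟨c, hc⟩ := h.uni hg
    refine ⟨c, fun u v => ?_⟩
    have h1 := hc (mE r n F *ᵥ u) ((mF r n F)ᵀ *ᵥ v)
    have h2 : (mE r n F)ᵀ * g.1 = A.1 * (mE r n F)ᵀ := by
      rw [mE_transpose, Matrix.neg_mul, h.fld.mL_mul hT hA, Matrix.mul_neg]
    rwa [mulVec_mulVec, hA, ← mulVec_mulVec, h.fld.hf_mE, h.fld.hf_mE, mulVec_mulVec, h2,
      mulVec_mulVec, mulVec_mulVec, Matrix.mul_assoc, h.fld.mET_mul_mFT, Matrix.mul_one,
      one_mulVec] at h1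

end Model

end Cfsg.Agent.H73.CV
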