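import Cfsg.Agent.H17.KnDef2

/-! Piece PP1 of project KN: the element that plays the part of a sign change. -/

set_option autoImplicit false
set_option maxRecDepth 100000

namespace Cfsg.Agent.H73.KnPp1

open Equiv Subgroup Cfsg.Agent.H11.A16 Cfsg.Agent.H63 Cfsg.Agent.H8.GD Cfsg.Agent.H17.Kn
open Cfsg.Agent.H89.Rec (Syl)
open Cfsg.Agent.H17
open scoped Pointwise

universe u

/-! ### The model -/

theorem par_inv (a : N2) : par a⁻¹ = par a := Equiv.sum_comp a.σ⁻¹ a.f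

theorem d_PP : dl 0 ∈ PP := by decide

theorem d_inv : (dl 0)⁻¹ = dl 0 := by decide

theorem d_d : dl 0 * dl 0 = 1 := by decide

theorem zp_EE (c : ZMod 2) : zp c ∈ EE := by revert c; decide

theorem zp_add (c c' : ZMod 2) : zp (c + c') = zp c * zp c' := by revert c c'; decide

theorem zp_zero : zp 0 = 1 := by decide

theorem zp_sq (c : ZMod 2) : zp c * zp c = 1 := by revert c; decide

theorem zp_eq {c : ZMod 2} (h : zp c = 1) : c = 0 := by revert c; decide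

theorem zp_comm (m2 : Mod2) (c : ZMod 2) (u : N2) : Commute u (zp c) := by
  have : c = 0 ∨ c = 1 := by revert c; decide
  rcases this with rfl | rfl
  · rw [zp_zero]; exact Commute.one_right u
  · exact m2.ab.2.2.2.2.2.2 u

theorem comm_EE (m2 : Mod2) (m : N2) {d : N2} (hd : d ∈ PP) : m * d * m⁻¹ * d⁻¹ ∈ EE :=
  ⟨PP.mul_mem ((m2.nrm m).1 d hd) (PP.inv_mem hd), show par _ = 0 by
    rw [par_mul, par_mul, par_mul, par_inv, par_inv]
    generalize par m = a; generalize par d = b; revert a b; decide⟩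

theorem conj_mem (m2 : Mod2) {X : Subgroup N2} (hX : EE ≤ X) {d u : N2} (hd : d ∈ PP)
    (hu : u ∈ X) : d * u * d⁻¹ ∈ X := by
  have := mul_mem hu (hX (comm_EE m2 u⁻¹ hd))
  rwa [show u * (u⁻¹ * d * u⁻¹⁻¹ * d⁻¹) = d * u * d⁻¹ by group] at this

/-- the correction term -/
def ek (k : N2) (c : ZMod 2) : N2 := dl 0 * (k * dl 0 * k⁻¹) * zp c

theorem ek_EE (m2 : Mod2) (k : N2) (c : ZMod 2) : ek k c ∈ EE := by
  refine mul_mem ?_ (zp_EE c)
  have := inv_mem (comm_EE m2 k d_PP)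
  rwa [show (k * dl 0 * k⁻¹ * (dl 0)⁻¹)⁻¹ = dl 0 * (k * (dl 0)⁻¹ * k⁻¹) by group, d_inv] at this

theorem ek_mul (m2 : Mod2) (k k' : N2) (c c' : ZMod 2) :
    ek k c * (k * ek k' c' * k⁻¹) = ek (k * k') (c + c') := by
  have h1 := fun u => (zp_comm m2 c u).eq
  have h2 := fun u => (zp_comm m2 c' u).eq
  unfold ek
  calc dl 0 * (k * dl 0 * k⁻¹) * zp c * (k * (dl 0 * (k' * dl 0 * k'⁻¹) * zp c') * k⁻¹)
      = dl 0 * (k * dl 0 * k⁻¹) * (zp c * (k * (dl 0 * (k' * dl 0 * k'⁻¹)))) * (zp c' * k⁻¹) := by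
        group
    _ = dl 0 * k * (dl 0 * dl 0) * (k' * dl 0 * k'⁻¹) * (zp c * k⁻¹) * zp c' := by
        rw [← h1, ← h2]; group
    _ = _ := by rw [d_d, ← h1, zp_add]; group

theorem ek_one (c : ZMod 2) : ek 1 c = zp c := by revert c; decide

theorem ek_f0 (c : ZMod 2) : ek f0 c = zp c := by revert c; decide

theorem rels : xe 0 1 = xe 0 2 * xe 2 1 * (xe 0 2)⁻¹ * (xe 2 1)⁻¹ ∧
    xe 1 2 = xe 1 3 * xe 3 2 * (xe 1 3)⁻¹ * (xe 3 2)⁻¹ ∧
    xe 2 3 = xe 2 1 * xe 1 3 * (xe 2 1)⁻¹ * (xe 1 3)⁻¹ ∧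
    xe 3 4 = xe 3 2 * xe 2 4 * (xe 3 2)⁻¹ * (xe 2 4)⁻¹ ∧
    xe 2 1 = xe 2 3 * xe 3 1 * (xe 2 3)⁻¹ * (xe 3 1)⁻¹ ∧
    xe 3 2 = xe 3 1 * xe 1 2 * (xe 3 1)⁻¹ * (xe 1 2)⁻¹ := by decide +kernel

theorem xe_QK : ∀ i j, xe i j ∈ QK := by decide +kernel

theorem xe_AA : ∀ i, xe i 4 ∈ AA := by decide +kernel

theorem f0_SE : f0 ∈ SE ∧ f0 ∉ T1 ∧ f0⁻¹ * f0⁻¹ = 1 := by decide +kernel

/-! ### General lemmas -/

variable {G : Type u} [Group G] {J : N2 → G} {φ : G → Perm Ω}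

theorem relIndex_eq {X D H : Subgroup G} (hD : D ≤ H)
    (h : ∀ x ∈ H, ∃ d ∈ D, d⁻¹ * x ∈ X) : X.relIndex H = X.relIndex D := by
  refine (Nat.card_congr (Equiv.ofBijective (quotientSubgroupOfEmbeddingOfLE X hD)
    ⟨(quotientSubgroupOfEmbeddingOfLE X hD).injective, fun y => ?_⟩)).symm
  obtain ⟨⟨x, hx⟩, rfl⟩ := QuotientGroup.mk_surjective y
  obtain ⟨d, hd, e⟩ := h x hx
  exact ⟨QuotientGroup.mk ⟨d, hd⟩, QuotientGroup.eq.2 e⟩

theorem mul_sup {N D : Subgroup G} (h : D ≤ N[N]) {x : G} (hx : x ∈ N ⊔ D) :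
    ∃ n ∈ N, ∃ d ∈ D, n * d = x := by
  have : x ∈ ((N ⊔ D : Subgroup G) : Set G) := hx
  rw [coe_mul_of_right_le_normalizer_left N D h] at this
  exact this

theorem cmem {K : Subgroup G} {g x : G} (h : g ∈ N[K]) (hx : x ∈ K) : g * x * g⁻¹ ∈ K :=
  (mem_normalizer_iff.1 h x).1 hx

theorem N_le_NC (K : Subgroup G) : N[K] ≤ N[C[K]] := fun g hg => by
  have k : ∀ g ∈ N[K], ∀ c ∈ C[K], g * c * g⁻¹ ∈ C[K] := fun g hg c hc =>
    mem_centralizer_iff.2 fun x hx => by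
      have := mem_centralizer_iff.1 hc _ (cmem (inv_mem hg) hx)
      calc x * (g * c * g⁻¹) = g * (g⁻¹ * x * g⁻¹⁻¹ * c) * g⁻¹ := by group
        _ = _ := by rw [this]; group
  refine mem_normalizer_iff.2 fun c => ⟨k g hg c, fun h => ?_⟩
  have := k _ (inv_mem hg) _ h
  rwa [show g⁻¹ * (g * c * g⁻¹) * g⁻¹⁻¹ = c by group] at this

theorem mem_N [Finite G] {X : Subgroup N2} {g : G} {k : N2} (em : Em J X) (h : Ex J g k X)
    (hk : ∀ u ∈ X, k * u * k⁻¹ ∈ X) : g ∈ N[im J X] := by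
  refine mem_normalizer_fintype fun x hx => ?_
  obtain ⟨u, hu, rfl⟩ := em.mem.1 hx
  have e : g * J u * g⁻¹ = _ := h u hu
  rw [e]; exact mem_im (hk u hu)

theorem cE {c : G} (hc : c ∈ C[im J EE]) {e : N2} (he : e ∈ EE) : J e * c = c * J e :=
  mem_centralizer_iff.1 hc _ (mem_im he)

/-- the situation -/
structure Cx (J : N2 → G) (φ : G → Perm Ω) (s : G) (S : Subgroup G) (p : G) : Prop where
  m2 : Mod2
  m3 : Mod3
  gen : Gen G
  kit : Kit J φ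
  st : St J φ s
  two : IsPGroup 2 S
  le : im J SE ≤ S
  nE : S ≤ N[im J EE]
  syl : Syl (S ⊓ C[im J EE]) C[im J EE]
  pb : Pb J S p

/-- realisers -/
structure Rz (J : N2 → G) (φ : G → Perm Ω) (S : Subgroup G) (g : G) (k : N2) : Prop where
  qk : k ∈ QK
  na : g ∈ NA J
  ph : φ g = pm2 k
  ex : Ex J g k AE
  np : g ∈ N[S ⊓ C[im J EE]]

/-- the action on `p` -/
def W (J : N2 → G) (φ : G → Perm Ω) (S : Subgroup G) (p : G) (c : ZMod 2) (k : N2) : Prop :=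
  ∃ g, Rz J φ S g k ∧ g * p * g⁻¹ = p * J (ek k c)

namespace Cx

variable [Finite G] {s p : G} {S : Subgroup G} (h : Cx J φ s S p)
include h

omit [Finite G] in
theorem EA : EE ≤ AE := h.m2.le.2.2.2.2.2.1
omit [Finite G] in
theorem AA_AE : AA ≤ AE := h.m2.le.2.2.2.1.trans h.m2.le.2.2.1
omit [Finite G] in
theorem AT : AE ≤ T1 := h.m2.le.2.2.2.2.2.2.1
omit [Finite G] in
theorem T01 : T0 ≤ T1 := h.m2.le.2.2.2.2.2.2.2.1
omit [Finite G] in
theorem TS : T1 ≤ SE := h.m2.le.2.2.2.2.2.2.2.2.1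
omit [Finite G] in
theorem emE : Em J EE := h.st.emE.mono h.EA
omit [Finite G] in
theorem kAE {k : N2} (hk : k ∈ QK) : ∀ u ∈ AE, k * u * k⁻¹ ∈ AE :=
  ((h.m2.nrm k).2.2.2.2.1 (h.m2.le.2.2.2.2.2.2.2.2.2.1 hk)).2
omit [Finite G] in
theorem SN : S ≤ N[S ⊓ C[im J EE]] := fun _ hg =>
  inf_normalizer_le_normalizer_inf ⟨le_normalizer hg, N_le_NC _ (h.nE hg)⟩
omit [Finite G] in
theorem JS {u : N2} (hu : u ∈ SE) : J u ∈ S := h.le (mem_im hu)
omit [Finite G] in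
theorem EC : im J EE ≤ C[im J EE] := fun x hx => mem_centralizer_iff.2 fun y hy => by
  obtain ⟨u, hu, rfl⟩ := h.emE.mem.1 hx
  obtain ⟨v, hv, rfl⟩ := h.emE.mem.1 hy
  rw [← h.emE.mul _ hv _ hu, ← h.emE.mul _ hu _ hv, (h.m2.ab.1 v hv.1 u hu.1).eq]

omit [Finite G] in
/-- an element of `C(E)` that acts on `a` as the sign change `d` acts on `a e` as `d` -/
theorem ext_E {c : G} (hc : c ∈ C[im J EE]) {d a e : N2} (hd : d ∈ PP) (ha : a ∈ SE) (he : e ∈ EE)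
    (r : R J c a (d * a * d⁻¹)) : R J c (a * e) (d * (a * e) * d⁻¹) := by
  have eS : EE ≤ SE := h.EA.trans (h.AT.trans h.TS)
  have e1 : d * (a * e) * d⁻¹ = d * a * d⁻¹ * e := by
    rw [mul_assoc, mul_assoc a, ← (h.m2.ab.1 _ (inv_mem hd) e he.1).eq]; group
  unfold R at *
  rw [e1, h.st.emS.mul _ ha _ (eS he), h.st.emS.mul _ (conj_mem h.m2 eS hd ha) _ (eS he), ← r,
    mul_assoc, mul_assoc (J a), cE (inv_mem hc) he]
  group

omit [Finite G] in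
theorem pAE : Ex J p (dl 0) AE := fun u hu => by
  obtain ⟨a, ha, e, he, rfl⟩ := h.m2.pAE u hu
  exact h.ext_E h.pb.cen d_PP (h.TS (h.AT (h.AA_AE ha))) he (h.pb.ex a ha)

omit [Finite G] in
theorem keyA {g : G} {k : N2} {X : Subgroup N2} (gP : g ∈ N[S ⊓ C[im J EE]])
    (gE : g ∈ N[im J EE]) (hX : EE ≤ X) (pX : Ex J p (dl 0) X) (gX : Ex J g k X)
    (hk : ∀ a ∈ AA, k⁻¹ * a * k ∈ X) : ∃ c, g * p * g⁻¹ = p * J (ek k c) := by
  have q := cmem gP (show p ∈ S ⊓ C[im J EE] from ⟨h.pb.mem, h.pb.cen⟩)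
  obtain ⟨e, he, e1⟩ := h.emE.mem.1 ((h.pb.idx _ q.1 q.2).resolve_left fun a =>
    h.pb.nm ((mem_normalizer_iff.1 gE p).2 a))
  have e2 : g * p * g⁻¹ = p * J e := by rw [e1]; group
  have dP : k * dl 0 * k⁻¹ ∈ PP := (h.m2.nrm k).1 _ d_PP
  have cm : ∀ a ∈ AA, Commute ((k * dl 0 * k⁻¹)⁻¹ * (dl 0 * e)) a := fun a ha => by
    have r1 := ((gX _ (hk a ha)).symm.trans (pX _ (hk a ha))).trans
      (gX _ (conj_mem h.m2 hX d_PP (hk a ha)))
    have aA := h.AA_AE ha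
    have r2 := (h.st.emE.self (h.EA he) aA).trans (h.pAE _ (conj_mem h.m2 h.EA he.1 aA))
    rw [show k * (k⁻¹ * a * k) * k⁻¹ = a by group, show g * (p * g⁻¹) = p * J e by
      rw [← e2]; group, show k * (dl 0 * (k⁻¹ * a * k) * (dl 0)⁻¹) * k⁻¹ =
        k * dl 0 * k⁻¹ * a * (k * dl 0 * k⁻¹)⁻¹ by group] at r1
    have := h.st.emE.inj _ (conj_mem h.m2 h.EA dP aA) _
      (conj_mem h.m2 h.EA d_PP (conj_mem h.m2 h.EA he.1 aA)) (Eq.trans (Eq.symm r1) r2)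
    show _ * a = a * _
    calc (k * dl 0 * k⁻¹)⁻¹ * (dl 0 * e) * a
        = (k * dl 0 * k⁻¹)⁻¹ * (dl 0 * (e * a * e⁻¹) * (dl 0)⁻¹) * (dl 0 * e) := by group
      _ = _ := by rw [← this]; group
  have e3 : ∀ c, (k * dl 0 * k⁻¹)⁻¹ * (dl 0 * e) = zp c → e = ek k c := fun c hc => by
    rw [ek, ← hc]
    calc e = (dl 0 * dl 0) * e := by rw [d_d, one_mul]
      _ = _ := by group
  rcases h.m3.cPA _ (mul_mem (inv_mem dP) (mul_mem d_PP he.1)) cm with a | a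
  · exact ⟨0, by rw [e2, e3 0 (a.trans zp_zero.symm)]⟩
  · exact ⟨1, by rw [e2, e3 1 a]⟩

omit [Finite G] in
theorem rz_mul {g g' : G} {k k' : N2} (a : Rz J φ S g k) (b : Rz J φ S g' k') :
    Rz J φ S (g * g') (k * k') :=
  ⟨mul_mem a.qk b.qk, mul_mem a.na b.na, by rw [h.st.mul _ a.na _ b.na, a.ph, b.ph, map_mul],
    fun u hu => by
      have := (b.ex u hu).trans (a.ex _ (h.kAE b.qk u hu))
      rwa [show k * (k' * u * k'⁻¹) * k⁻¹ = k * k' * u * (k * k')⁻¹ by group] at this,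
    mul_mem a.np b.np⟩

theorem rz_W {g : G} {k : N2} (a : Rz J φ S g k) : ∃ c, g * p * g⁻¹ = p * J (ek k c) :=
  h.keyA a.np (mem_N h.emE (fun u hu => a.ex u (h.EA hu)) (h.m2.nrm k).2.1) h.EA h.pAE a.ex
    fun x hx => by
      have := h.kAE (inv_mem a.qk) x (h.AA_AE hx)
      rwa [inv_inv] at this

omit [Finite G] in
theorem W_mul {c c' : ZMod 2} {k k' : N2} (a : W J φ S p c k) (b : W J φ S p c' k') :
    W J φ S p (c + c') (k * k') := by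
  obtain ⟨g, a, a'⟩ := a
  obtain ⟨g', b, b'⟩ := b
  refine ⟨g * g', h.rz_mul a b, ?_⟩
  have r : g * J (ek k' c') * g⁻¹ = _ := a.ex _ (h.EA (ek_EE h.m2 k' c'))
  rw [← ek_mul h.m2, h.emE.mul _ (ek_EE h.m2 k c) _ ((h.m2.nrm k).2.1 _ (ek_EE h.m2 k' c')), ← r,
    ← mul_assoc p, ← a', show g * g' * p * (g * g')⁻¹ = g * (g' * p * g'⁻¹) * g⁻¹ by group, b']
  group

omit [Finite G] in
theorem W_one {c : ZMod 2} (a : W J φ S p c 1) : c = 0 := by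
  obtain ⟨g, a, a'⟩ := a
  rw [ek_one] at a'
  have r : g * J (zp c) * g⁻¹ = J (1 * zp c * 1⁻¹) := a.ex _ (h.EA (zp_EE c))
  rw [one_mul, inv_one, mul_one] at r
  have := h.gen.odd1 g p (J (zp c)) 1 (h.st.ker g a.na (a.ph.trans (map_one pm2)))
    (mul_inv_eq_iff_eq_mul.1 r) a' (by
      rw [← h.emE.pow (zp_EE c), pow_one, pow_two, zp_sq, h.emE.one])
  exact zp_eq (h.emE.inj _ (zp_EE c) _ (one_mem _) (this.trans h.emE.one.symm))

omit [Finite G] in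
/-- elements of `P` realise all sign changes -/
theorem realP {e : N2} (he : e ∈ PP) : ∃ y ∈ S ⊓ C[im J EE], Ex J y e AE := by
  have eS : EE ≤ SE := h.EA.trans (h.AT.trans h.TS)
  rcases h.m2.iPP e he with a | a
  · exact ⟨J e, ⟨h.JS (eS a), h.EC (mem_im a)⟩, fun u hu => h.st.emE.self (h.EA a) hu⟩
  · refine ⟨p * J ((dl 0)⁻¹ * e), ⟨mul_mem h.pb.mem (h.JS (eS a)),
      mul_mem h.pb.cen (h.EC (mem_im a))⟩, fun u hu => ?_⟩
    have := (h.st.emE.self (h.EA a) hu).trans (h.pAE _ (conj_mem h.m2 h.EA a.1 hu))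
    rwa [show dl 0 * ((dl 0)⁻¹ * e * u * ((dl 0)⁻¹ * e)⁻¹) * (dl 0)⁻¹ = e * u * e⁻¹ by group] at this

theorem real {k : N2} (hk : k ∈ QK) : ∃ g, Rz J φ S g k := by
  obtain ⟨g, gA, gφ, gX⟩ := h.st.exK k hk
  have AS : im J AA ≤ S := (im_mono (h.AA_AE.trans (h.AT.trans h.TS))).trans h.le
  have AN : im J AA ≤ N[C[im J EE]] := AS.trans (h.nE.trans (N_le_NC _))
  have gC : g ∈ N[C[im J EE]] :=
    N_le_NC _ (mem_N h.emE (fun u hu => gX u (h.EA hu)) (h.m2.nrm k).2.1)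
  obtain ⟨Y, hY⟩ : ∃ Y, Y = S ⊓ (C[im J EE] ⊔ im J AA) := ⟨_, rfl⟩
  have AY : im J AA ≤ Y := hY ▸ le_inf AS le_sup_right
  have YC : Y ⊓ C[im J EE] = S ⊓ C[im J EE] := by
    rw [hY, inf_assoc, inf_of_le_right (le_sup_left : C[im J EE] ≤ _)]
  have sy : Syl Y (C[im J EE] ⊔ im J AA) := ⟨hY ▸ inf_le_right, hY ▸ h.two.to_inf_left, by
    rw [relIndex_eq le_sup_left (fun x hx => by
      obtain ⟨n, hn, d, hd, rfl⟩ := mul_sup AN hx
      exact ⟨n, hn, by rw [inv_mul_cancel_left]; exact AY hd⟩), ← inf_relIndex_right, YC]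
    exact h.syl.odd⟩
  obtain ⟨x, hx, xg⟩ := h.gen.frat Y _ g sy (normalizer_inf_normalizer_le_normalizer_sup _ _ ⟨gC, gA⟩)
  obtain ⟨n, hn, d, hd, rfl⟩ := mul_sup AN hx
  obtain ⟨c, hc⟩ : ∃ c, c = d⁻¹ * n * d⁻¹⁻¹ := ⟨_, rfl⟩
  have cC : c ∈ C[im J EE] := hc ▸ cmem (inv_mem (AN hd)) hn
  have cg : c * g ∈ N[Y] := by
    have := mul_mem (inv_mem (le_normalizer (AY hd))) xg
    rwa [show d⁻¹ * (n * d * g) = c * g by rw [hc]; group] at this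
  have cP : c * g ∈ N[S ⊓ C[im J EE]] :=
    YC ▸ inf_normalizer_le_normalizer_inf ⟨cg, mul_mem (le_normalizer cC) gC⟩
  have emA : Em J AA := h.st.emE.mono h.AA_AE
  have act : ∀ a ∈ AA, a ≠ 1 → a ≠ Kn.z2 → ∃ e ∈ EE, R J c a (a * e) := fun a ha n1 nz => by
    have m1 : c * J a * c⁻¹ ∈ S := by
      have := cmem cg (AY (cmem (inv_mem gA) (mem_im ha)))
      rw [show c * g * (g⁻¹ * J a * g⁻¹⁻¹) * (c * g)⁻¹ = c * J a * c⁻¹ by group, hY] at this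
      exact this.1
    have m2 : (J a)⁻¹ * (c * J a * c⁻¹) ∈ C[im J EE] := by
      have := mul_mem (cmem (inv_mem (AN (mem_im ha))) cC) (inv_mem cC)
      rwa [show (J a)⁻¹ * c * (J a)⁻¹⁻¹ * c⁻¹ = (J a)⁻¹ * (c * J a * c⁻¹) by group] at this
    have aa : J a * J a = 1 := by rw [← emA.mul _ ha _ ha, h.m2.ab.2.2.2.2.2.1 a ha, emA.one]
    obtain ⟨e, he, e1⟩ := h.emE.mem.1 (h.pb.ninv a ha n1 nz _
      (mul_mem (inv_mem (AS (mem_im ha))) m1) m2 (by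
        rw [mul_inv_cancel_left, pow_two,
          show c * J a * c⁻¹ * (c * J a * c⁻¹) = c * (J a * J a) * c⁻¹ by group, aa]; group))
    exact ⟨e, he, by rw [R, h.st.emE.mul _ (h.AA_AE ha) _ (h.EA he), e1]; group⟩
  have cmm : ∀ {a b a' b' : N2}, a ∈ AA → b ∈ AA → a' ∈ AE → b' ∈ AE → R J c a a' → R J c b b' →
      Commute a' b' := fun {a b a' b'} ha hb ha' hb' r r' =>
    h.st.emE.inj _ (mul_mem ha' hb') _ (mul_mem hb' ha') (by
      unfold R at r r'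
      rw [h.st.emE.mul _ ha' _ hb', h.st.emE.mul _ hb' _ ha', ← r, ← r',
        show c * J a * c⁻¹ * (c * J b * c⁻¹) = c * (J a * J b) * c⁻¹ by group,
        ← emA.mul _ ha _ hb, (h.m2.ab.2.2.1 a ha b hb).eq, emA.mul _ hb _ ha]; group)
  have sq : ∀ {a a' : N2}, a ∈ AA → a' ∈ AE → R J c a a' → a' ^ 2 = 1 := fun {a a'} ha ha' r =>
    h.st.emE.inj _ (pow_mem ha' 2) _ (one_mem _) (by
      unfold R at r
      rw [h.st.emE.pow ha', ← r, pow_two,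
        show c * J a * c⁻¹ * (c * J a * c⁻¹) = c * (J a * J a) * c⁻¹ by group,
        ← emA.mul _ ha _ ha, h.m2.ab.2.2.2.2.2.1 a ha, emA.one]; group)
  obtain ⟨e1, he1, r1⟩ := act _ (xe_AA 1) (by decide) (by decide)
  obtain ⟨e2, he2, r2⟩ := act _ (xe_AA 2) (by decide) (by decide)
  obtain ⟨e3, he3, r3⟩ := act _ (xe_AA 3) (by decide) (by decide)
  have m1 := mul_mem (h.AA_AE (xe_AA 1)) (h.EA he1)
  have m2 := mul_mem (h.AA_AE (xe_AA 2)) (h.EA he2)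
  have m3 := mul_mem (h.AA_AE (xe_AA 3)) (h.EA he3)
  obtain ⟨e, he, k1, k2, k3⟩ := h.m3.cpl e1 he1.1 e2 he2.1 e3 he3.1 (sq (xe_AA 1) m1 r1)
    (sq (xe_AA 2) m2 r2) (sq (xe_AA 3) m3 r3) (cmm (xe_AA 1) (xe_AA 2) m1 m2 r1 r2)
    (cmm (xe_AA 1) (xe_AA 3) m1 m3 r1 r3) (cmm (xe_AA 2) (xe_AA 3) m2 m3 r2 r3)
  obtain ⟨y, hy, yX⟩ := h.realP he
  have c'C : y⁻¹ * c ∈ C[im J EE] := mul_mem (inv_mem hy.2) cC
  have c'A : y⁻¹ * c ∈ C[im J AA] := by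
    have fx : ∀ {a a' : N2}, a ∈ AA → R J c a a' → e * a * e⁻¹ = a' → R J (y⁻¹ * c) a a :=
      fun {a a'} ha r k => r.trans (k ▸ (yX a (h.AA_AE ha)).symm)
    let K : Subgroup N2 := ((C1[y⁻¹ * c]).comap emA.hom).map AA.subtype
    have mK : ∀ a (ha : a ∈ AA), R J (y⁻¹ * c) a a → a ∈ K := fun a ha r =>
      ⟨⟨a, ha⟩, mem_centralizer_singleton_iff.2 (mul_inv_eq_iff_eq_mul.1 r).symm, rfl⟩
    have : AA ≤ K := h.m2.gAA K fun i => by
      fin_cases i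
      · exact mK _ (xe_AA 0) (mul_inv_eq_iff_eq_mul.2 (cE c'C (e := xe 0 4) (by decide)).symm)
      · exact mK _ (xe_AA 1) (fx (xe_AA 1) r1 k1)
      · exact mK _ (xe_AA 2) (fx (xe_AA 2) r2 k2)
      · exact mK _ (xe_AA 3) (fx (xe_AA 3) r3 k3)
      · exact one_mem K
    refine mem_centralizer_iff.2 fun x hx => ?_
    obtain ⟨a, ha, rfl⟩ := emA.mem.1 hx
    obtain ⟨b, hb, rfl⟩ := this ha
    exact mem_centralizer_singleton_iff.1 hb
  obtain ⟨a, ha, κ, κA, κφ, e0⟩ := h.kit.dec _ c'A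
  have κC := h.kit.kerC κ κA κφ
  have aC : J a ∈ C[im J EE] := by
    obtain ⟨m, hm⟩ := h.st.ker κ κA κφ
    have := pow_mem c'C (orderOf κ)
    rwa [e0, Commute.mul_pow (mem_centralizer_iff.1 κC _ (mem_im ha)), pow_orderOf_eq_one, mul_one,
      hm, pow_succ, pow_mul, pow_two, ← emA.mul _ ha _ ha, h.m2.ab.2.2.2.2.2.1 a ha, emA.one,
      one_pow, one_mul] at this
  have eκ : κ = (J a)⁻¹ * (y⁻¹ * c) := by rw [e0]; group
  have κE : κ ∈ C[im J EE] := eκ ▸ mul_mem (inv_mem aC) c'C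
  refine ⟨κ * g, hk, mul_mem κA gA, by rw [h.st.mul _ κA _ gA, κφ, one_mul, gφ], fun u hu => ?_, ?_⟩
  · refine (gX u hu).trans ?_
    obtain ⟨a', ha', e', he', e''⟩ := h.m2.pAE _ (h.kAE hk u hu)
    rw [e'', R, h.st.emE.mul _ (h.AA_AE ha') _ (h.EA he'), ← mul_assoc,
      ← mem_centralizer_iff.1 κC _ (mem_im ha'), mul_assoc (J a'), ← cE κE he']
    group
  · rw [eκ, mul_assoc, mul_assoc]
    exact mul_mem (inv_mem (h.SN (AS (mem_im ha)))) (mul_mem (inv_mem (h.SN hy.1)) cP)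

theorem W_ex {k : N2} (hk : k ∈ QK) : ∃ c, W J φ S p c k := by
  obtain ⟨g, a⟩ := h.real hk
  obtain ⟨c, b⟩ := h.rz_W a
  exact ⟨c, g, a, b⟩

theorem W_inv {c : ZMod 2} {k : N2} (a : W J φ S p c k) : W J φ S p c k⁻¹ := by
  obtain ⟨d, b⟩ := h.W_ex (inv_mem a.choose_spec.1.qk)
  have := h.W_mul a b
  rw [mul_inv_cancel] at this
  have e := h.W_one this
  have : d = c := by revert e; generalize c = c; generalize d = d; revert c d; decide
  exact this ▸ b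

theorem W_zero {k : N2} (hk : k ∈ QK) : W J φ S p 0 k := by
  let K : Subgroup N2 :=
    { carrier := {k | W J φ S p 0 k}
      one_mem' := by
        obtain ⟨c, a⟩ := h.W_ex (one_mem QK)
        exact h.W_one a ▸ a
      mul_mem' := fun a b => by simpa using h.W_mul a b
      inv_mem' := h.W_inv }
  have cm : ∀ i j i' j', xe i j * xe i' j' * (xe i j)⁻¹ * (xe i' j')⁻¹ ∈ K := fun i j i' j' => by
    obtain ⟨c, a⟩ := h.W_ex (xe_QK i j)
    obtain ⟨d, b⟩ := h.W_ex (xe_QK i' j')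
    have := h.W_mul (h.W_mul (h.W_mul a b) (h.W_inv a)) (h.W_inv b)
    rwa [show c + d + c + d = 0 by generalize c = c; generalize d = d; revert c d; decide] at this
  obtain ⟨r1, r2, r3, r4, r5, r6⟩ := rels
  exact h.m2.gQK K (h.m2.gT0 K (r1 ▸ cm ..) (r2 ▸ cm ..) (r3 ▸ cm ..) (r4 ▸ cm ..)) (r5 ▸ cm ..)
    (r6 ▸ cm ..) hk

theorem pT : Ex J p (dl 0) T1 := fun u hu => by
  obtain ⟨t, ht, e, he, rfl⟩ := h.m2.pT1 u hu
  have tS := h.TS (h.T01 ht)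
  refine h.ext_E h.pb.cen d_PP tS he ?_
  have a : Rz J φ S (J t) t := ⟨ht.1, h.kit.le t ht, h.st.res t ht,
    fun v hv => h.st.em1.self (h.T01 ht) (h.AT hv), h.SN (h.JS tS)⟩
  obtain ⟨c, b⟩ := h.rz_W a
  have c0 : c = 0 := by
    have := h.W_mul (h.W_inv (h.W_zero ht.1)) ⟨_, a, b⟩
    rw [inv_mul_cancel, zero_add] at this
    exact h.W_one this
  have eS : EE ≤ SE := h.EA.trans (h.AT.trans h.TS)
  have pp : p * p * J t = J t * (p * p) := by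
    rcases h.pb.sq with e | e <;> rw [e]
    · rw [one_mul, mul_one]
    · rw [Kn.z2, ← h.st.emS.mul _ (eS (zp_EE 1)) _ tS, ← h.st.emS.mul _ tS _ (eS (zp_EE 1)),
        (zp_comm h.m2 1 t).eq]
  have e1 : dl 0 * t * (dl 0)⁻¹ = ek t 0 * t := by rw [ek, zp_zero, d_inv]; group
  rw [R, e1, h.st.emS.mul _ (eS (ek_EE h.m2 t 0)) _ tS, ← c0]
  calc p * J t * p⁻¹ = p⁻¹ * (p * p * J t) * p⁻¹ := by group
    _ = p⁻¹ * (J t * p * (J t)⁻¹) * J t := by rw [pp]; group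
    _ = _ := by rw [b]; group

theorem pf : R J p f0 f0 ∨ R J p f0 (f0 * Kn.z2) := by
  obtain ⟨f1, f2, f3⟩ := f0_SE
  have eS : EE ≤ SE := h.EA.trans (h.AT.trans h.TS)
  obtain ⟨c, b⟩ := h.keyA (k := f0) (h.SN (h.JS f1)) (h.nE (h.JS f1)) (h.EA.trans h.AT) h.pT
    (fun v hv => h.st.emS.self f1 (h.TS hv)) fun a ha => by
      have aT := h.AT (h.AA_AE ha)
      refine (h.m2.iSE _ (mul_mem (mul_mem (inv_mem f1) (h.TS aT)) f1)).resolve_right fun k => f2 ?_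
      rw [← mul_assoc, ← mul_assoc, f3, one_mul] at k
      exact (mul_mem_cancel_left aT).1 k
  rw [ek_f0] at b
  have r : R J p f0 (f0 * zp c) := by
    have zz : J (zp c) * J (zp c) = 1 := by
      rw [← h.emE.mul _ (zp_EE c) _ (zp_EE c), zp_sq, h.emE.one]
    rw [R, (zp_comm h.m2 c f0).eq, h.st.emS.mul _ (eS (zp_EE c)) _ f1]
    calc p * J f0 * p⁻¹ = J (zp c) * (J (zp c) * p) * J f0 * p⁻¹ := by
          rw [← mul_assoc, zz, one_mul]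
      _ = _ := by rw [cE h.pb.cen (zp_EE c), ← b]; group
  have : c = 0 ∨ c = 1 := by generalize c = c; revert c; decide
  rcases this with rfl | rfl
  · left; rwa [zp_zero, mul_one] at r
  · exact Or.inr r

omit [Finite G] in
theorem P_eq : im J EE ⊔ zpowers p = S ⊓ C[im J EE] := by
  refine le_antisymm (sup_le (le_inf ((im_mono (h.EA.trans (h.AT.trans h.TS))).trans h.le) h.EC)
    (zpowers_le.2 ⟨h.pb.mem, h.pb.cen⟩)) fun g hg => ?_
  rcases h.pb.idx g hg.1 hg.2 with a | a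
  · exact mem_sup_left a
  · have := mul_mem (mem_sup_right (mem_zpowers p) : p ∈ im J EE ⊔ zpowers p) (mem_sup_left a)
    rwa [mul_inv_cancel_left] at this

theorem pa : Pa J φ s p :=
  ⟨h.st, h.pb.cen, h.pb.nm, h.pb.sq, h.pT, h.pf, h.P_eq ▸ h.syl, fun k hk => by
    obtain ⟨g, a, b⟩ := h.W_zero hk
    exact ⟨g, a.na, a.ph, a.ex, by rwa [ek, zp_zero, mul_one] at b⟩⟩

end Cx

theorem pp1 (hB : Base.{u}) (h2 : Pb2Stmt.{u}) : Pp1Stmt.{u} := by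
  intro G _ _ J φ s st ns
  have m2 := hB.m2
  have eS : EE ≤ SE := m2.le.2.2.2.2.2.1.trans (m2.le.2.2.2.2.2.2.1.trans m2.le.2.2.2.2.2.2.2.2.1)
  have emE : Em J EE := st.emS.mono eS
  have TN : im J SE ≤ N[im J EE] := im_le fun t ht =>
    mem_N emE (fun u hu => st.emS.self ht (eS hu)) (m2.nrm t).2.1
  obtain ⟨S, two, le, le', -, syl⟩ := hB.gen.ovs C[im J EE] (im J SE)
    (st.emS.two (hB.m1.two.to_le inf_le_left)) (TN.trans (N_le_NC _))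
  have nE : S ≤ N[im J EE] := le'.trans (sup_le (centralizer_le_normalizer _) TN)
  rcases h2 J φ st.toE0 S two ((im_mono (m2.le.2.2.2.2.2.2.1.trans
    m2.le.2.2.2.2.2.2.2.2.1)).trans le) nE with a | ⟨p, pb⟩
  · refine absurd ?_ ns
    have : S ⊓ C[im J EE] = im J EE := le_antisymm (fun g hg => a g hg.1 hg.2)
      (le_inf ((im_mono eS).trans le) fun x hx => mem_centralizer_iff.2 fun y hy => by
        obtain ⟨u, hu, rfl⟩ := emE.mem.1 hx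
        obtain ⟨v, hv, rfl⟩ := emE.mem.1 hy
        rw [← emE.mul _ hv _ hu, ← emE.mul _ hu _ hv, (m2.ab.1 v hv.1 u hu.1).eq])
    rw [this] at syl
    exact syl
  · exact ⟨p, Cx.pa ⟨m2, hB.m3, hB.gen, hB.kit J φ st.toKi, st, two, le, nE, syl, pb⟩⟩

end Cfsg.Agent.H73.KnPp1
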