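import Cfsg.Agent.H73.LpB2

/-! Project LP, pieces TB4 and SIG. -/

set_option autoImplicit false

namespace Cfsg.Agent.H73.LpB

open Cfsg.Agent.H17.LP Matrix Subgroup

theorem cq {Y : Subgroup N0} (hY : Y ≤ T0) (v : B) :
    el v ∈ CQ Y ↔ el v ∈ Q0 ∧ ∀ s, el s ∈ Y → E v s :=
  and_congr_right fun h => ⟨fun k s hs => (zc h s).1 (k _ hs), fun k n hn => by
    obtain ⟨s, rfl⟩ := ex (hY hn)
    exact (zc h s).2 (k s hn)⟩

theorem cq_ext {Y W : Subgroup N0} (hW : W ≤ T0) (h : ∀ v, el v ∈ CQ Y ↔ el v ∈ W) : CQ Y = W := by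
  ext n
  refine ⟨fun k => ?_, fun k => ?_⟩
  · obtain ⟨v, rfl⟩ := ex (Q_T k.1); exact (h v).1 k
  · obtain ⟨v, rfl⟩ := ex (hW k); exact (h v).2 k

theorem card_of {k : ℕ} {Y : Subgroup N0} (f : (Fin k → F) → B) (hf : Function.Injective f) (hY : Y ≤ T0)
    (h : ∀ u, el u ∈ Y ↔ ∃ c, f c = u) : Nat.card Y = 2 ^ k := by
  have e : (Y : Set N0) = Set.range (el ∘ f) := by
    ext n
    refine ⟨fun hn => ?_, fun ⟨c, hc⟩ => hc ▸ (h _).2 ⟨c, rfl⟩⟩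
    obtain ⟨u, rfl⟩ := ex (hY hn)
    obtain ⟨c, rfl⟩ := (h u).1 hn
    exact ⟨c, rfl⟩
  rw [← SetLike.coe_sort_coe, e, Nat.card_range_of_injective (Function.Injective.comp (fun _ _ => el_inj) hf)]
  simp

theorem c4 : Nat.card ↥(Q0 ⊓ Ap) = 2 ^ 7 := by
  refine card_of (fun c => (⟨c 0, c 1, c 2, 0, c 3, c 4, 0, 0, 0, 0, 0, 0, 0, c 5, 0, 0, c 6, 0, 0, 0⟩ : B)) (fun c d e => ?_) (inf_le_left.trans Q_T) (fun u => ?_)
  · ext i; fin_cases i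
    exacts [congrArg B.a12 e, congrArg B.a13 e, congrArg B.a14 e, congrArg B.a23 e, congrArg B.a24 e, congrArg B.x15 e, congrArg B.x25 e]
  · simp only [mem_inf, mem_Q0, mem_Ap]
    constructor
    · intro h
      exact ⟨![u.a12, u.a13, u.a14, u.a23, u.a24, u.x15, u.x25], by ext <;> simp [h]⟩
    · rintro ⟨c, rfl⟩
      simp

theorem c5 : Nat.card ↥(Q0 ⊓ App) = 2 ^ 7 := by
  refine card_of (fun c => (⟨c 0, c 1, c 2, c 5, c 3, c 4, c 6, 0, 0, 0, 0, 0, 0, c 5, 0, 0, c 6, 0, 0, 0⟩ : B)) (fun c d e => ?_) (inf_le_left.trans Q_T) (fun u => ?_)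
  · ext i; fin_cases i
    exacts [congrArg B.a12 e, congrArg B.a13 e, congrArg B.a14 e, congrArg B.a23 e, congrArg B.a24 e, congrArg B.x15 e, congrArg B.x25 e]
  · simp only [mem_inf, mem_Q0, mem_App, PApp]
    constructor
    · intro h
      exact ⟨![u.a12, u.a13, u.a14, u.a23, u.a24, u.x15, u.x25], by ext <;> simp [h]⟩
    · rintro ⟨c, rfl⟩
      simp

theorem c6 : Nat.card ↥(A1 ⊓ Ap) = 2 ^ 5 := by
  refine card_of (fun c => (⟨c 0, c 1, c 2, 0, c 3, c 4, 0, 0, 0, 0, 0, 0, 0, 0, 0, 0, 0, 0, 0, 0⟩ : B)) (fun c d e => ?_) (inf_le_left.trans A1_T) (fun u => ?_)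
  · ext i; fin_cases i
    exacts [congrArg B.a12 e, congrArg B.a13 e, congrArg B.a14 e, congrArg B.a23 e, congrArg B.a24 e]
  · simp only [mem_inf, mem_A1, mem_Ap]
    constructor
    · intro h
      exact ⟨![u.a12, u.a13, u.a14, u.a23, u.a24], by ext <;> simp [h]⟩
    · rintro ⟨c, rfl⟩
      simp

theorem c1 : CQ QA = A1 := cq_ext A1_T fun v => by
  rw [cq QA_T, mem_Q0, mem_A1]
  refine ⟨fun ⟨h, k⟩ => ?_, fun h => ⟨by simp [h], fun s hs => ?_⟩⟩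
  · have k1 := k (⟨0, 0, 0, 0, 0, 0, 0, 1, 0, 0, 0, 0, 0, 0, 0, 0, 0, 0, 0, 0⟩ : B) (by simp [mem_QA])
    have k2 := k (⟨0, 0, 0, 0, 0, 0, 0, 0, 1, 0, 0, 0, 0, 0, 0, 0, 0, 0, 0, 0⟩ : B) (by simp [mem_QA])
    simp [E] at k1 k2
    simp [h, k1, k2]
  · rw [mem_QA] at hs
    simp [E, h, hs]

theorem c2 (q : QKStmt) : CQ (Q0 ⊔ Ap) = (Q0 ⊓ Ap : Subgroup N0) :=
  cq_ext (inf_le_left.trans Q_T) fun v => by
  rw [cq (sup_le Q_T Ap_T), mem_inf, mem_Q0, mem_Ap]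
  refine and_congr_right fun h => ⟨fun k => ?_, fun k s hs => ?_⟩
  · have k1 := k (⟨0, 0, 0, 0, 0, 0, 0, 1, 0, 0, 0, 0, 0, 0, 0, 0, 0, 0, 0, 0⟩ : B) (by simp [mem_QAp q])
    have k2 := k (⟨0, 0, 0, 0, 0, 0, 0, 0, 0, 0, 0, 0, 0, 0, 0, 0, 0, 0, 1, 0⟩ : B) (by simp [mem_QAp q])
    simp [E] at k1 k2
    simp [h, k1, k2]
  · rw [mem_QAp q] at hs
    simp [E, k, hs]

theorem c3 (q : QKStmt) : CQ (Q0 ⊔ App) = (Q0 ⊓ App : Subgroup N0) :=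
  cq_ext (inf_le_left.trans Q_T) fun v => by
  rw [cq (sup_le Q_T App_T), mem_inf, mem_Q0, mem_App, PApp]
  refine and_congr_right fun h => ⟨fun k => ?_, fun k s hs => ?_⟩
  · have k1 := k (⟨0, 0, 0, 0, 0, 0, 0, 1, 0, 0, 0, 0, 0, 0, 0, 0, 0, 0, 0, 0⟩ : B) (by simp [mem_QApp q])
    have k2 := k (⟨0, 0, 0, 0, 0, 0, 0, 0, 1, 0, 0, 0, 0, 0, 0, 0, 0, 0, 1, 0⟩ : B) (by simp [mem_QApp q])
    simp [E] at k1 k2
    simp only [h, k1, true_and, and_true]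
    grind
  · rw [mem_QApp q] at hs
    simp [E, k, hs, two_F]

theorem nrm {Y : Subgroup N0} (hY : Y ≤ T0) (h : ∀ t s d, el s ∈ Y → t * s = d * t → el d ∈ Y) :
    T0 ≤ normalizer (Y : Set N0) := by
  have k : ∀ t ∈ T0, ∀ s ∈ Y, t * s * t⁻¹ ∈ Y := fun t ht s hs => by
    obtain ⟨t, rfl⟩ := ex ht
    obtain ⟨s, rfl⟩ := ex (hY hs)
    obtain ⟨d, e, k⟩ := quo (t * s) t
    rw [← el_mul, e]
    exact h t s d hs k
  intro t ht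
  refine mem_normalizer_iff.2 fun s => ⟨k t ht s, fun hs => ?_⟩
  simpa [mul_assoc] using k _ (T0.inv_mem ht) _ hs

theorem sqQ (s : B) : el s * el s ∈ Q0 ↔ s.a35 * s.x45 + s.a45 * s.x35 + s.a45 * s.x34 * s.x45 = 0 ∧
    s.a45 * s.x34 = 0 ∧ s.x34 * s.x45 = 0 := by
  rw [← el_mul, mem_Q0]
  simp only [mul_def, B.mul, two_F, true_and, and_true, zero_add]
  grind

theorem c14 (q : QKStmt) : ∀ a ∈ QA, ∀ b ∈ Q0 ⊔ Ap, a ∉ Q0 ⊔ Ap → b ∉ QA → (a * b) ^ 2 ∈ Q0 →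
    a * b ∈ Q0 ⊔ App ∧ CQ (Q0 ⊔ closure {zz 3 4, a * b}) = (Q0 ⊓ App : Subgroup N0) := by
  intro a ha b hb na nb sq2
  obtain ⟨a, rfl⟩ := ex (QA_T ha)
  obtain ⟨b, rfl⟩ := ex (sup_le Q_T Ap_T hb)
  rw [← el_mul] at sq2 ⊢
  rw [sq, sqQ] at sq2
  rw [mem_QA] at ha nb
  rw [mem_QAp q] at hb na
  have f : ∀ p r x y : F, ¬ (p = 0 ∧ r = 0) → ¬ (x = 0 ∧ y = 0) → p * y + r * x = 0 →
      p = x ∧ r = y := by decide
  have g := f a.a35 a.a45 b.x35 b.x45 (by simpa [ha] using na) (by simpa [hb] using nb)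
    (by simpa [mul_def, B.mul, ha, hb] using sq2)
  have s1 : (a * b).x12 = 0 ∧ (a * b).x34 = 0 ∧ (a * b).a35 = (a * b).x35 ∧ (a * b).a45 = (a * b).x45 := by
    simp [mul_def, B.mul, ha, hb, g]
  have s2 : ¬ ((a * b).x35 = 0 ∧ (a * b).x45 = 0) := by simpa [mul_def, B.mul, ha, hb] using nb
  generalize a * b = s at s1 s2
  have m := (mem_QApp q s).2 s1
  refine ⟨m, Set.Subset.antisymm (fun n hn => ?_) fun n hn => ?_⟩
  · obtain ⟨v, rfl⟩ := ex (Q_T hn.1)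
    have k1 := (zc hn.1 (z34 1)).1 (ez34 ▸ hn.2 _ (mem_sup_right (subset_closure (Or.inl rfl))))
    have k2 := (zc hn.1 s).1 (hn.2 _ (mem_sup_right (subset_closure (Or.inr rfl))))
    have h := (mem_Q0 v).1 hn.1
    refine ⟨hn.1, (mem_App v).2 ?_⟩
    simp [E, z34] at k1
    simp [E, k1, s1] at k2
    have f2 : ∀ x y a b : F, ¬ (x = 0 ∧ y = 0) → x * b + x * a = 0 → y * b + y * a = 0 → a = b := by decide
    simp only [PApp, h, k1, true_and, and_true]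
    exact ⟨f2 _ _ _ _ s2 k2.1 k2.2.1, f2 _ _ _ _ s2 k2.2.2.1 k2.2.2.2⟩
  · rw [← c3 q] at hn
    refine ⟨hn.1, fun t ht => hn.2 t ((sup_le le_sup_left ((closure_le _).2 ?_) : _ ≤ Q0 ⊔ App) ht)⟩
    rintro _ (rfl | rfl)
    exacts [ez34 ▸ (mem_QApp q _).2 (by simp [z34]), m]

theorem c15 (q : QKStmt) : ∀ s ∈ Q0 ⊔ closure {xx 1 2, zz 3 4}, 2 ^ 7 < (CQ (Q0 ⊔ zpowers s)).ncard →
    s ∈ Q0 ⊔ zpowers (zz 3 4) := by
  intro s hs hc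
  obtain ⟨s, rfl⟩ := ex (sup_le Q_T cl_T hs)
  rw [mem_Qxz q] at hs
  rw [mem_Qz q]
  rcases F01 s.x12 with e | e
  · simp [e, hs]
  refine absurd hc (not_lt.2 ?_)
  have sub : CQ (Q0 ⊔ zpowers (el s)) ⊆ Set.range fun c : Fin 7 → F =>
      el (⟨c 0, c 1, c 2, c 3, s.a34 * c 5, s.a34 * c 4, 0, 0, 0, 0, 0, c 4, c 5, c 6, 0, 0, 0, 0, 0, 0⟩ : B) := by
    intro n hn
    obtain ⟨v, rfl⟩ := ex (Q_T hn.1)
    have k := (zc hn.1 s).1 (hn.2 _ (mem_sup_right (mem_zpowers _)))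
    have h := (mem_Q0 v).1 hn.1
    simp [E, hs, e] at k
    refine ⟨![v.a12, v.a13, v.a14, v.a15, v.x13, v.x14, v.x15], congrArg el ?_⟩
    ext <;> simp [h, k] <;> grind
  refine (Set.ncard_le_ncard sub).trans ?_
  rw [← Set.image_univ]
  refine (Set.ncard_image_le).trans ?_
  simp

theorem tb4 (q : QKStmt) (k : KitStmt) : Tb4Stmt := by
  have n : T0 ≤ normalizer (Q0 : Set N0) := T_H.trans q.2.2.2.2.2.2.2.2.2.2
  have cQ : Nat.card Q0 = 2 ^ 13 := q.2.2.2.2.2.2.2.1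
  refine ⟨c1, c2 q, c3 q, c4, c5, c6, ?_, ?_, ?_, ?_, ?_, ?_, ?_, c14 q, c15 q⟩
  · ext n
    refine ⟨fun h => ?_, fun h => ?_⟩
    · obtain ⟨u, rfl⟩ := ex (QA_T h.1)
      rw [mem_inf, mem_QA, mem_QAp q] at h
      simp [mem_Qz q, h]
    · obtain ⟨u, rfl⟩ := ex (sup_le Q_T zp_T h)
      rw [mem_Qz q] at h
      simp [mem_QA, mem_QAp q, h]
  · have := H1.card_sup_mul_card_inf_of_le_normalizer (Ap_T.trans n)
    rw [sup_comm, inf_comm, c4, cQ, k.2.2.2.2.2.2.1] at this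
    omega
  · have := H1.card_sup_mul_card_inf_of_le_normalizer (App_T.trans n)
    rw [sup_comm, inf_comm, c5, cQ, k.2.2.2.2.2.2.2.1] at this
    omega
  · refine nrm (sup_le Q_T Ap_T) fun t s d hs e => ?_
    rw [mem_QAp q] at hs ⊢
    obtain ⟨-, -, -, -, -, -, -, -, e9, e10, e11, -, -, -, -, -, -, e18, -, -⟩ := B.ext_iff.1 e
    simp only [mul_def, B.mul, hs] at e9 e10 e11 e18
    grind
  · refine nrm (sup_le Q_T App_T) fun t s d hs e => ?_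
    rw [mem_QApp q] at hs ⊢
    obtain ⟨-, -, -, -, -, -, -, -, e9, e10, e11, -, -, -, -, -, -, e18, e19, e20⟩ := B.ext_iff.1 e
    simp only [mul_def, B.mul, hs] at e9 e10 e11 e18 e19 e20
    grind
  · intro s hs h
    obtain ⟨s, rfl⟩ := ex hs
    have g : ∀ v, el v ∈ A1 → el v ∈ Q0 → E v s := fun v h1 h2 => (zc h2 s).1 (by
      simpa [mul_assoc] using Z0.inv_mem (h _ h1))
    have k1 := g (⟨0, 0, 0, 0, 0, 0, 1, 0, 0, 0, 0, 0, 0, 0, 0, 0, 0, 0, 0, 0⟩ : B) (by simp [mem_A1]) (by simp [mem_Q0])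
    have k2 := g (⟨0, 0, 0, 0, 0, 1, 0, 0, 0, 0, 0, 0, 0, 0, 0, 0, 0, 0, 0, 0⟩ : B) (by simp [mem_A1]) (by simp [mem_Q0])
    simp [E] at k1 k2
    simp [mem_QA, k1, k2]
  · intro s hs h
    obtain ⟨s, rfl⟩ := ex hs
    have g : ∀ t, EQ (s * t) (t * s) := fun t => (quo_Q _ _).1 (by
      simpa [el_mul, mul_assoc] using h _ (el_T t))
    have k1 := g (⟨0, 0, 0, 0, 0, 0, 0, 0, 0, 0, 0, 0, 0, 0, 0, 0, 0, 1, 0, 0⟩ : B)
    have k2 := g (⟨0, 0, 0, 0, 0, 0, 0, 0, 0, 0, 0, 0, 0, 0, 0, 0, 0, 0, 0, 1⟩ : B)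
    have k3 := g (⟨0, 0, 0, 0, 0, 0, 0, 0, 0, 1, 0, 0, 0, 0, 0, 0, 0, 0, 0, 0⟩ : B)
    simp [EQ, mul_def, B.mul] at k1 k2 k3
    rw [mem_Qxz q]
    grind

theorem sq1 {v : B} (h : el v ∈ Q0) : el v * el v = 1 ↔
    v.a13 * v.x23 + v.a14 * v.x24 + v.a15 * v.x25 + v.a23 * v.x13 + v.a24 * v.x14 + v.a25 * v.x15 = 0 := by
  rw [mem_Q0] at h
  rw [← el_mul, ← el_o]
  refine ⟨fun e => ?_, fun e => congrArg el ?_⟩
  · have := congrArg B.a12 (el_inj e)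
    simp [mul_def, B.mul, h, o, two_F] at this
    grind
  · ext <;> simp [mul_def, B.mul, h, o, two_F]
    grind

set_option synthInstance.maxSize 4000 in
set_option synthInstance.maxHeartbeats 400000 in
theorem sig (q : QKStmt) : SigStmt := by
  refine ⟨fun a ha => ?_, fun s hs => ?_⟩
  · obtain ⟨a, rfl⟩ := ex (QA_T ha)
    rw [mem_QA] at ha
    rw [ex12, ← el_mul]
    have s1 : (x12 1 * a).x12 = 1 ∧ (x12 1 * a).x34 = 0 ∧ (x12 1 * a).x35 = 0 ∧ (x12 1 * a).x45 = 0 := by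
      simp [mul_def, B.mul, ha, x12]
    generalize x12 1 * a = s at s1
    refine ⟨by simp [sqQ, s1], fun v hv h => ?_⟩
    obtain ⟨v, rfl⟩ := ex (Q_T hv)
    have k := (zc hv s).1 h
    simp [E, s1] at k
    rw [sq1 hv]
    grind
  · obtain ⟨s, rfl⟩ := ex hs
    have f : ∀ a34 a35 a45 x12 x34 x35 x45 : F, ∃ z x y : F,
        ¬ (((a35 + x + x34 * y) * (x45 + y) + (a45 + y) * (x35 + x + x34 * y) + (a45 + y) * x34 * (x45 + y) = 0 ∧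
          (a45 + y) * x34 = 0 ∧ x34 * (x45 + y) = 0) ∧ ¬ E (⟨0, 0, 0, 1, 0, 0, 1, 0, 0, 0, 0, 1, 0, 0, 0, 0, 1, 0, 0, 0⟩ : B)
          (⟨0, 0, 0, 0, 0, 0, 0, a34 + z + x35 * y + x45 * x + x34 * x45 * y, a35 + x + x34 * y, a45 + y, x12 + 0, 0, 0, 0, 0, 0, 0, x34 + 0, x35 + x + x34 * y, x45 + y⟩ : B)) := by
      simp only [E]
      decide +kernel
    obtain ⟨z, x, y, h⟩ := f s.a34 s.a35 s.a45 s.x12 s.x34 s.x35 s.x45
    refine ⟨el (⟨0, 0, 0, 0, 0, 0, 0, z, x, y, 0, 0, 0, 0, 0, 0, 0, 0, x, y⟩ : B), by simp [mem_QApp q], fun ⟨h1, h2⟩ => h ⟨?_, fun k => ?_⟩⟩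
    · rw [← el_mul, sqQ] at h1
      simpa [mul_def, B.mul] using h1
    · have hv : el (⟨0, 0, 0, 1, 0, 0, 1, 0, 0, 0, 0, 1, 0, 0, 0, 0, 1, 0, 0, 0⟩ : B) ∈ Q0 := by simp [mem_Q0]
      rw [← el_mul] at h2
      have := (sq1 hv).1 (h2 _ hv ((zc hv _).2 k))
      simp at this

end Cfsg.Agent.H73.LpB
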