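import Cfsg.Agent.H25.CUKit
import Cfsg.Agent.H54.C6H3

/-!
# Project C6U, piece H3: three homologies generate a group with a transvection
-/

set_option autoImplicit false
set_option linter.style.haveILetI false

namespace Cfsg.Agent.H73.CuH3

open Matrix Cfsg.Geo Cfsg.Agent.H26 Polynomial
open Cfsg.Agent.H25 Cfsg.Agent.H25.CU
open Cfsg.Agent.H25.C6 hiding Fld Mod Bc Low Ar Tri StdStmt NrmStmt EsStmt GeoStmt TpStmt TvStmt OddStmt ZsStmt H3bStmt
  H3cStmt H3dStmt H3Stmt A1Stmt K0Stmt SwStmt PrimStmt RealStmt BigStmt SmallStmt ClsStmt A2Stmt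
  LiftStmt KbStmt KoddStmt UqStmt One
open Cfsg.Agent.H54.C6H3 (isTv_emb tv_sl tv_su sM_map det_sM)
open scoped MatrixGroups

universe u

/-- the argument over an extension containing a cube root of `l⁻¹` -/
theorem aux (hb : H3bStmt.{u}) (hc : H3cStmt.{u}) (hd : H3dStmt.{u}) {F K : Type u} [Field F]
    [Field K] [Fintype K] (f : F →+* K) {r p : ℕ} {γ l : F} (hA : Ar r p (f γ) (f l)) {c : K}
    (c3 : c ^ 3 * f l = 1) (hn : f l = -1 → c = -1) (Γ : Subgroup (GL (Fin 3) F))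
    (hΓ : ∀ i, HasMat Γ (sM r γ l i)) : ∃ g ∈ Γ, L45.IsTv g := by
  choose g hg hg' using hΓ
  have c0 : c ≠ 0 := by
    rintro rfl
    simp at c3
  let s : Fin 3 → GL (Fin 3) K := fun i =>
    GeneralLinearGroup.map f (g i) * scal (Fin 3) (Units.mk0 c c0)
  have hs : ∀ i, (s i).1 = c • sM r (f γ) (f l) i := fun i => by
    have : (GeneralLinearGroup.map f (g i)).1 = sM r (f γ) (f l) i := by
      rw [← sM_map, ← hg']
      rfl
    simp only [s, Units.val_mul, this, coe_scal, Units.val_mk0, Matrix.mul_smul, Matrix.mul_one]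
  have hT : Tri r p (f γ) (f l) c s := ⟨hA, c3, hn, hs⟩
  have hS : Subgroup.closure (Set.range s) ≤ specialLinear (Fin 3) K := by
    rw [Subgroup.closure_le]
    rintro _ ⟨i, rfl⟩
    change s i ∈ specialLinear (Fin 3) K
    rw [mem_SL_iff, hs, det_smul, det_sM, Fintype.card_fin, c3]
  have hle : Subgroup.closure (Set.range s) ≤
      Γ.map (GeneralLinearGroup.map f) ⊔ scalars (Fin 3) K := by
    rw [Subgroup.closure_le]
    rintro _ ⟨i, rfl⟩
    exact mem_sup_scalars.2 ⟨_, ⟨g i, hg i, rfl⟩, _, rfl⟩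
  obtain ⟨d1, d2, d3, d4⟩ := hd K r p _ _ c s hT
  have key : ∃ τ ∈ Subgroup.closure (Set.range s), L45.IsTv τ := by
    rcases struct3 hS d1 with ⟨D, hD, k⟩ | ⟨L, hL, k⟩ | ⟨x, y, z, h1, h2, k⟩ | k
    · exact absurd k (d2 D hD)
    · exact absurd k (d3 L hL)
    · exact absurd k (hb K r p _ _ c s hT x y z h1 h2)
    rcases k with ⟨F₁, B, k1, -, -⟩ | ⟨F₁, σ, h, B, hf, -, k1, -, -⟩ | ⟨b, -, hb', k, -⟩ |
      ⟨P, -, hP, k1, k2, -⟩ | ⟨P, hP, k1, k2, -⟩ | ⟨P, hP, -, k1, k2, -⟩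
    · obtain ⟨t, ht, ht'⟩ := tv_sl F₁
      exact ⟨_, k1 ⟨t, ht, rfl⟩, isTv_emb _ B ht'⟩
    · obtain ⟨t, ht, ht'⟩ := tv_su hf
      exact ⟨_, k1 ⟨t, ht, rfl⟩, isTv_emb _ B ht'⟩
    · exact absurd k (d4 b hb')
    · exact absurd ⟨hP, k2⟩ (hc K r p _ _ c s hT P k1).1
    · exact absurd ⟨hP, k2⟩ (hc K r p _ _ c s hT P k1).2.1
    · exact absurd ⟨hP, k2⟩ (hc K r p _ _ c s hT P k1).2.2
  obtain ⟨τ, hτ, ht⟩ := key
  obtain ⟨_, ⟨x, hx, rfl⟩, κ, rfl⟩ := mem_sup_scalars.1 (hle hτ)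
  haveI := hA.char
  obtain ⟨n, -, hq⟩ := FiniteField.card K p
  have h1 : (GeneralLinearGroup.map f x * scal (Fin 3) κ) ^ Fintype.card K = 1 := by
    obtain ⟨m, hm⟩ : p ∣ Fintype.card K := hq ▸ dvd_pow_self p n.ne_zero
    rw [hm, pow_mul, L45.IsTv.pow_char ht, one_pow]
  have h2 : κ ^ Fintype.card K = κ := Units.ext (by
    rw [Units.val_pow_eq_pow_val, FiniteField.pow_card])
  rw [mul_scal_pow, h2, ← map_pow] at h1
  rw [eq_inv_of_mul_eq_one_right h1, ← map_inv, ← map_mul] at ht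
  exact ⟨_, mul_mem hx (inv_mem (pow_mem hx _)), L45.isTv_of_map f ht⟩

/-- Piece H3. -/
theorem h3 (hb : H3bStmt.{u}) (hc : H3cStmt.{u}) (hd : H3dStmt.{u}) : H3Stmt.{u} := by
  intro F _ _ r p γ l hA Γ hΓ
  by_cases hl : l = -1
  · exact aux hb hc hd (RingHom.id F) (c := -1) hA (by simp [hl]; norm_num) (fun _ => rfl) Γ hΓ
  obtain ⟨m, hm, hlm⟩ := hA.ord
  have l0 : l ≠ 0 := by
    rintro rfl
    rw [zero_pow hm.ne_zero] at hlm
    exact zero_ne_one hlm
  let P : F[X] := X ^ 3 - C l⁻¹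
  let K := P.SplittingField
  haveI : Finite K := Module.finite_of_finite F
  letI : Fintype K := Fintype.ofFinite K
  let f : F →+* K := algebraMap F K
  have hdeg : (P.map f).degree ≠ 0 := by
    rw [degree_map, degree_X_pow_sub_C (by norm_num)]
    norm_num
  obtain ⟨c, hc3⟩ := (SplittingField.splits P).exists_eval_eq_zero hdeg
  have c3 : c ^ 3 * f l = 1 := by
    simp only [P, Polynomial.map_sub, Polynomial.map_pow, map_X, map_C, eval_sub, eval_pow, eval_X,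
      eval_C, sub_eq_zero] at hc3
    rw [hc3, ← map_mul, inv_mul_cancel₀ l0, map_one]
  have hl' : f l ≠ -1 := fun e => hl (f.injective (by rw [e, map_neg, map_one]))
  haveI := hA.char
  refine aux hb hc hd f (c := c) ⟨hA.prime, charP_of_injective_ringHom f.injective p, hA.two, hA.pr,
    ?_, fun e => hA.ne (f.injective (by rw [e, map_one])), ⟨m, hm, by rw [← map_pow, hlm, map_one]⟩,
    fun e => absurd e hl'⟩ c3 (fun e => absurd e hl') Γ hΓ
  rw [← map_mul, hA.gam, map_neg, map_natCast]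

end Cfsg.Agent.H73.CuH3
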