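import Cfsg.Agent.H73.BwThin
import Cfsg.Agent.H73.BwEnum7
import Cfsg.Agent.H11.BwAmG
import Cfsg.Agent.H13.BwC73
import Cfsg.Agent.H13.BwF20V
import Cfsg.Agent.H19.BwAmA
import Cfsg.Agent.H19.BwSmall
import Cfsg.Agent.H23.BwFB
import Cfsg.Agent.H23.BwLL
import Cfsg.Agent.H24.BwExp
import Cfsg.Agent.H24.BwStruct
import Cfsg.Agent.H29.BwNum
import Cfsg.Agent.H29.BwQrc
import Cfsg.Agent.H3.BwQrcH
import Cfsg.Agent.H31.BwAr
import Cfsg.Agent.H31.BwCm
import Cfsg.Agent.H32.BwE9B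
import Cfsg.Agent.H32.BwL33A
import Cfsg.Agent.H4.BwR23
import Cfsg.Agent.H4.BwRank
import Cfsg.Agent.H40.BwAmC
import Cfsg.Agent.H40.BwFb2
import Cfsg.Agent.H43.BwL33
import Cfsg.Agent.H43.BwTypeD
import Cfsg.Agent.H47.BwFat
import Cfsg.Agent.H57.BwA27
import Cfsg.Agent.H57.BwTree
import Cfsg.Agent.H6.BwEnum73
import Cfsg.Agent.H6.BwGL3
import Cfsg.Agent.H60.BwEnum5
import Cfsg.Agent.H61.BwK7i
import Cfsg.Agent.H65.BwType
import Cfsg.Agent.H67.BwBlk
import Cfsg.Agent.H67.BwUni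
import Cfsg.Agent.H69.BwYb
import Cfsg.Agent.H72.BwDD
import Cfsg.Agent.H72.BwK
import Cfsg.Agent.H75.BwN13
import Cfsg.Agent.H75.BwShape
import Cfsg.Agent.H76.BwAmB
import Cfsg.Agent.H76.BwDz
import Cfsg.Agent.H8.BwInv
import Cfsg.Agent.H8.BwKit
import Cfsg.Agent.H8.BwPrime
import Cfsg.Agent.H83.BwNB
import Cfsg.Agent.H84.BwCrit
import Cfsg.Agent.H86.BwF21
import Cfsg.Agent.H86.BwN17
import Cfsg.Agent.H90.BwF17
import Cfsg.Agent.H90.BwSemi
import Cfsg.Agent.H92.BwCnt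
import Cfsg.Agent.H92.BwK7a
import Cfsg.Agent.H94.BwJQ
import Cfsg.Agent.H94.BwSig2

/-!
Simple groups of order `p * 3 ^ a * 2 ^ b`: the pieces put together.
-/

set_option autoImplicit false

namespace Cfsg.Agent.H73.BW

universe u

theorem pieces_of (list : ListStmt.{u}) (solv : SolvStmt.{u}) (sig1 : Sig1Stmt.{u})
    (k7z : K7zStmt) : Pieces.{u} :=
  have kit := H8.BwKit.kit.{u}
  have cnt := H92.BwCnt.cnt kit
  have struct := H24.BwS.struct kit
  have shape := H75.BwShape.shape.{u}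
  have f21 := H86.BwF21.f21.{u}
  have jq := H94.BwJQ.jq kit cnt list
  have qrc := H29.BwQrc.qrc kit cnt jq H3.BwQrcH.qrcH
  have dz := H76.BwDz.dz.{u}
  have blk := H67.BwBlk.blk kit
  have r23 := H4.BwR23.r23.{u}
  have loc3 := H24.BwE.loc3.{u}
  have crit := H84.BwCrit.crit.{u}
  have a27 := H57.BwA.a27 r23
  have uni := H67.BwUni.uni kit cnt
  have nb := H83.BwNB.nb
  { prime := H8.BwPrime.prime
    small := H19.BwS.small
    rank := H4.BwRank.rank
    e3 := H8.BwPrime.e3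
    c2 := H8.BwPrime.c2
    kit := kit
    solv := solv
    struct := struct
    shape := shape
    n17 := H86.BwN17.n17 kit cnt H90.BwF17.f17 f21
    n13 := H75.BwN13.n13 kit cnt H43.BwL33.l33 H32.BwL33A.l33a
    qrc := qrc
    k := H72.BwK.kStmt dz
    sig1 := sig1
    sig2 := H94.BwSig2.sig2 kit
    yb := H69.yb kit loc3 r23 H6.BwGL3.gl3
    fb := H23.BwF.fb kit loc3 r23 (H40.BwFb2.fb2 crit a27 H90.BwSemi.semi)
    thin := thin kit list (H65.BwType.type kit struct shape cnt) (H43.BwTypeD.typeD kit)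
      H72.BwDD.ddStmt (H23.BwL.ll kit cnt) (H13.BwF.f20v kit cnt) jq qrc (H19.BwA.amA cnt uni)
      (H11.BwA.amG kit cnt uni (H76.BwAmB.amB kit uni) (H40.BwAmC.amc kit))
    fat := H47.BwFat.fat kit struct shape cnt crit a27 H32.BwE9B.e9b f21
    arith := H31.BwAr.arith
    tree := H57.BwT.tree
    num := H29.BwNum.num kit blk dz
    c73 := H13.BwC.c73 kit blk dz
    nb := nb
    enum5 := H60E5.enum5 nb
    enum73 := H6.BwEnum73.enum73 nb
    enum7 := Se.enum7 nb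
    inv := H8.BwInv.inv kit blk dz
    cm := H31.BwCm.cm
    perm := H31.BwAr.perm
    k5 := H31.BwAr.k5
    k7a := H92.BwK7a.k7a kit
    k7z := k7z
    k7i := H61.BwK.k7i }

end Cfsg.Agent.H73.BW
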