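import Cfsg.Agent.H42.HtDefs

/-! Piece TC1 of project HT. -/

set_option autoImplicit false

namespace Cfsg.Agent.H73.HtTC1

open Cfsg Cfsg.Agent.H63 Cfsg.Agent.H63.SL Cfsg.Agent.H63.AN Subgroup Cfsg.Agent.H42.HT
open Cfsg.Agent.H7.AA (ev d2 Acts KA NA)
open Cfsg.Agent.H78 (c3 altOn symOn)
open Equiv (swap Perm)
open Equiv.Perm (sign)
open scoped commutatorElement

universe u

variable {G : Type u} [Group G] {ψ : Al →* G}

theorem five : 5 ≤ Fintype.card (Fin 10) := by decide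

theorem ord_dvd (hi : Function.Injective ψ) {x : G} {ρ : P} (h : Acts ψ x ρ) :
    orderOf ρ ∣ orderOf x :=
  orderOf_dvd_of_pow_eq_one ((h.pow _).uniq five hi (by
    rw [pow_orderOf_eq_one]; exact H7.AA.acts_one))

theorem KA_of_odd (hi : Function.Injective ψ) {x : G} {ρ : P} (h : Acts ψ x ρ)
    (ho : Odd (orderOf x)) (h2 : ρ * ρ = 1) : x ∈ KA ψ := by
  have h1 : orderOf ρ ∣ 2 := orderOf_dvd_of_pow_eq_one (by rw [pow_two, h2])
  have h3 := ho.of_dvd_nat (ord_dvd hi h)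
  have : ρ = 1 := orderOf_eq_one_iff.1 (((Nat.dvd_prime Nat.prime_two).1 h1).resolve_right
    fun e => by rw [e] at h3; exact absurd h3 (by decide))
  exact H7.AA.Acts.KA (this ▸ h)

theorem odd_conj {o : G} (g : G) (h : Odd (orderOf o)) : Odd (orderOf (g * o * g⁻¹)) := by
  have := (MulAut.conj g).orderOf_eq o
  rw [MulAut.conj_apply] at this
  rwa [this]

theorem cj {a b : G} (g : G) (h : Commute a b) : Commute (g * a * g⁻¹) (g * b * g⁻¹) :=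
  h.map (MulAut.conj g)

theorem cj_fix {a g : G} (h : Commute g a) : g * a * g⁻¹ = a := by rw [h.eq]; group

theorem op_mul {t u a b : G} (fr : Fr ψ t) (ha : Op ψ t u a) (hb : Op ψ t u b) :
    Op ψ t u (a * b) := ⟨fr.omul a b ha.1 hb.1, ha.2.mul_left hb.2⟩

theorem op_inv {t u a : G} (fr : Fr ψ t) (ha : Op ψ t u a) : Op ψ t u a⁻¹ :=
  ⟨fr.oinv a ha.1, ha.2.inv_left⟩

theorem op_cj {t u a n : G} (fr : Fr ψ t) (ha : Op ψ t u a) (h1 : Commute n t)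
    (h2 : Commute n u) : Op ψ t u (n * a * n⁻¹) :=
  ⟨fr.ocj a n ha.1 h1, (h2.mul_left ha.2).mul_left h2.inv_left⟩

theorem ev_t {t : G} (fr : Fr ψ t) (σ : P) : Commute (ev ψ σ) t := (H7.AA.KA_ev fr.tK σ).symm

theorem part1 (F : FF) {t u s d : G} (fr : Fr ψ t) (nw : Nw ψ t u s d) {o : G}
    (h : Op ψ t u o) : Op ψ t u (s * o * s⁻¹) := by
  obtain ⟨⟨hK, ht, ho⟩, hu⟩ := h
  have su := cj_fix nw.su
  have ct : Commute (s * o * s⁻¹) t := by
    have := cj s (ht.mul_right hu)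
    rwa [show s * (t * u) * s⁻¹ = s * t * s⁻¹ * (s * u * s⁻¹) by group, nw.st, su, mul_assoc t,
      nw.u2, mul_one] at this
  obtain ⟨ρ, hρ⟩ := fr.act _ ct
  refine ⟨⟨KA_of_odd fr.inj hρ (odd_conj s ho) ?_, ct, odd_conj s ho⟩, su ▸ cj s hu⟩
  rcases F.c8 2 3 (by decide) ρ (fun σ hσ => hρ.comm_perm fr.inj (H78.mem_altOn.1 hσ).2
    (cj_fix (nw.sA σ hσ) ▸ cj s (H7.AA.KA_ev hK σ) :
      Commute (s * o * s⁻¹) (ev ψ σ))) with rfl | rfl
  · rfl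
  · decide

theorem part2 (F : FF) {t u g : G} (fr : Fr ψ t) (gz : Gz ψ t g) (gu : Commute g u) {o : G}
    (h : Op ψ t u o) : Op ψ t u (g * o * g⁻¹) := by
  obtain ⟨⟨hK, ht, ho⟩, hu⟩ := h
  have s8 : sign z8 = 1 := (H78.mem_altOn.1 z8_mem).2
  have zz : ev ψ z8 * ev ψ z8 = 1 := by
    rw [← H7.AA.ev_mul s8 s8, show z8 * z8 = 1 by decide, H7.AA.ev_one]
  have gzz := cj_fix gz.gz
  have oz : Commute o (ev ψ z8) := H7.AA.KA_ev hK z8
  have cz : Commute (g * o * g⁻¹) (ev ψ z8) := gzz ▸ cj g oz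
  have ct : Commute (g * o * g⁻¹) t := by
    have := cj g (ht.mul_right oz)
    rwa [show g * (t * ev ψ z8) * g⁻¹ = g * t * g⁻¹ * (g * ev ψ z8 * g⁻¹) by group, gz.gt, gzz,
      mul_assoc t, zz, mul_one] at this
  obtain ⟨γ, hγ⟩ := fr.act _ ct
  refine ⟨⟨KA_of_odd fr.inj hγ (odd_conj g ho) ?_, ct, odd_conj g ho⟩, cj_fix gu ▸ cj g hu⟩
  refine (fun h : γ = 1 ∨ γ = swap 2 3 ∨ γ = z8 ∨ γ = swap 2 3 * z8 => by
    rcases h with rfl | rfl | rfl | rfl <;> decide)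
    (F.cz γ (hγ.comm_perm fr.inj s8 cz) fun σ hσ hc => ?_)
  have sσ := (H78.mem_altOn.1 hσ).2
  have nt : Commute (g⁻¹ * ev ψ σ * g⁻¹⁻¹) t := by
    have := cj g⁻¹ ((ev_t fr σ).mul_right (H7.AA.ev_comm (ψ := ψ) sσ s8 hc))
    rwa [← gz.gt, show g⁻¹ * (g * t * g⁻¹) * g⁻¹⁻¹ = t by group] at this
  have od := fr.omul _ _ (fr.ocj o _ ⟨hK, ht, ho⟩ nt) (fr.oinv o ⟨hK, ht, ho⟩)
  have o2 := odd_conj g od.2.2
  have ac := ((H7.AA.acts_ev (ψ := ψ) sσ).conj hγ).mul hγ.inv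
  refine Odd.of_dvd_nat o2 ?_
  rw [commutatorElement_def]
  convert ord_dvd fr.inj ac using 2
  group

theorem tc1 : Tc1Stmt.{u} := by
  intro F G _ _ ψ t fr _ u s d g nw gz gu
  refine ⟨fun o => part1 F fr nw, fun o => part2 F fr gz gu, fun n nt nu => ?_⟩
  obtain ⟨p, hp⟩ := fr.act n nt
  have cp : Commute p (swap 2 3) := by
    have := hp.conj nw.ua
    rw [cj_fix nu] at this
    exact mul_inv_eq_iff_eq_mul.1 (this.uniq five fr.inj nw.ua)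
  obtain ⟨a, ha, e, f, rfl⟩ := F.dec p cp
  obtain ⟨fa, sa⟩ := H78.mem_altOn.1 ha
  have au : Commute (ev ψ a) u := by
    refine (nw.ua.comm sa ?_).symm
    have := Equiv.mul_swap_eq_swap_mul a 2 3
    rw [fa 2 (by decide), fa 3 (by decide)] at this
    exact this.symm
  obtain ⟨j, hj⟩ : ∃ j, j = ev ψ a * d ^ e * u ^ f := ⟨_, rfl⟩
  have ja : Acts ψ j (a * swap 0 1 ^ e * swap 2 3 ^ f) :=
    hj ▸ ((H7.AA.acts_ev sa).mul (nw.da.pow e)).mul (nw.ua.pow f)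
  have jt : Commute j t := hj ▸ ((ev_t fr a).mul_left (nw.dt.pow_left e)).mul_left (nw.ut.pow_left f)
  have ju : Commute j u :=
    hj ▸ (au.mul_left (nw.du.pow_left e)).mul_left ((Commute.refl u).pow_left f)
  have js : Commute j s :=
    hj ▸ ((nw.sA a ha).symm.mul_left (nw.ds.pow_left e)).mul_left (nw.su.symm.pow_left f)
  have kK : j⁻¹ * n ∈ KA ψ := by
    have := ja.inv.mul hp
    rw [inv_mul_cancel] at this
    exact this.KA
  have kt : Commute (j⁻¹ * n) t := jt.inv_left.mul_left nt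
  have ku : Commute (j⁻¹ * n) u := ju.inv_left.mul_left nu
  obtain ⟨κ, rfl⟩ : ∃ κ, n = j * κ := ⟨j⁻¹ * n, by group⟩
  rw [inv_mul_cancel_left] at kK kt ku
  have e1 : ⁅j * κ, s⁆ = j * ⁅κ, s⁆ * j⁻¹ := by
    simp only [commutatorElement_def]
    calc j * κ * s * (j * κ)⁻¹ * s⁻¹ = j * κ * s * κ⁻¹ * (j⁻¹ * s⁻¹) := by group
      _ = _ := by rw [js.inv_inv.eq]; group
  have key : ∀ o, Op ψ t u o → Op ψ t u (j * (o * (s * o⁻¹ * s⁻¹)) * j⁻¹) := fun o ho =>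
    op_cj fr (op_mul fr ho (part1 F fr nw (op_inv fr ho))) jt ju
  rcases fr.ker κ kK kt with od | od
  · exact ⟨_, key κ ⟨od, ku⟩, Or.inl (by rw [e1, commutatorElement_def]; group)⟩
  · have op : Op ψ t u (κ * t) := ⟨od, ku.mul_left nw.ut.symm⟩
    refine ⟨_, key _ op, Or.inr ?_⟩
    have ti : t⁻¹ = t := inv_eq_of_mul_eq_one_right fr.t2
    have c1 : Commute u (s * κ⁻¹ * s⁻¹) :=
      (nw.su.symm.mul_right ku.symm.inv_right).mul_right nw.su.symm.inv_right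
    rw [e1, commutatorElement_def, mul_inv_rev, ti]
    calc j * (κ * s * κ⁻¹ * s⁻¹) * j⁻¹
        = j * (κ * (t * t) * (u * u) * (s * κ⁻¹ * s⁻¹)) * j⁻¹ := by rw [fr.t2, nw.u2]; group
      _ = j * (κ * t * (t * u) * (u * (s * κ⁻¹ * s⁻¹))) * j⁻¹ := by group
      _ = j * (κ * t * (s * t * s⁻¹) * (s * κ⁻¹ * s⁻¹)) * (u * j⁻¹) := by
          rw [c1.eq, nw.st]; group
      _ = _ := by rw [ju.symm.inv_right.eq]; group

end Cfsg.Agent.H73.HtTC1
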