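import Cfsg.Agent.H73.CVAsm
import Cfsg.Agent.H88.CvZs
import Cfsg.Agent.H70.CvStd
import Cfsg.Agent.H82.CvNrm
import Cfsg.Agent.H26.CvEs
import Cfsg.Agent.H20.CVGeo
import Cfsg.Agent.H12.CvTpC
import Cfsg.Agent.H19.CvTv
import Cfsg.Agent.H8.CuTv
import Cfsg.Agent.H28.CvH3b
import Cfsg.Agent.H36.CvH3c
import Cfsg.Agent.H55.CvH3d
import Cfsg.Agent.H95.CvH3x
import Cfsg.Agent.H43.CvA1
import Cfsg.Agent.H44.CvK0
import Cfsg.Agent.H71.CvSw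
import Cfsg.Agent.H86.CvPrim
import Cfsg.Agent.H79.CvNsl
import Cfsg.Agent.H84.CvBig
import Cfsg.Agent.H30.CvSmall
import Cfsg.Agent.H4.C6Gf1
import Cfsg.Agent.H67.CvCop
import Cfsg.Agent.H64.CvA2
import Cfsg.Agent.H8.CvLift
import Cfsg.Agent.H70.CvKodd
import Cfsg.Agent.H57.CvN2
import Cfsg.Agent.H69.CvK2
import Cfsg.Agent.H15.CvB2
import Cfsg.Agent.H38.CvBl
import Cfsg.Agent.H16.CvD1
import Cfsg.Agent.H52.CvD2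
import Cfsg.Agent.H34.CvD3a
import Cfsg.Agent.H22.CvD3b
import Cfsg.Agent.H54.CvD4
import Cfsg.Agent.H80.CvOff
import Cfsg.Agent.H9.CvG2
import Cfsg.Agent.H47.CvU2a
import Cfsg.Agent.H89.CvU2b
import Cfsg.Agent.H33.CvLs

/-! # Project CV: clause (7) of S5855 -/

set_option autoImplicit false

namespace Cfsg.Agent.H73.CV

universe u

theorem pieces : Pieces.{u} where
  std := H70.CvStd.std
  nrm := H82.CvNrm.nrm
  geo := H20.CVGeo.geo H26.CvEs.es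
  tv := H19.CvTv.tv H12.CvTp.tp
  odd := H8.CuTv.oddS
  zs := H88.CvZs.zs
  a1 := H43.CvA1.a1 (H43.CvA1.h3 H28.CvH3b.h3b H36.CvH3c.h3c H55.CvH3d.h3d) H3x.h3x
  k0 := H44.CvK0.k0
  sw := H71.CvSw.sw
  prim := H86.CvPrim.prim
  real := H86.CvPrim.realS
  nsl := H79.CvNsl.nsl
  big := H84.CvBig.big
  small := H30.CvSmall.small
  gf1 := H4.C6Gf1.gf1
  cop := H67.CvCop.cop
  tv5 := H79.CvNsl.tv5
  a2 := H64.CvA2.a2
  lift := H8.CvLift.lift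
  kodd := H70.CvKodd.kodd H70.CvKodd.kb
  uq := H64.CvA2.uq
  n2 := H57.CvN2.n2 H57.CvN2.hh
  k2 := H69.CvK2.k2 H57.CvN2.hh
  b2 := H15.CvB2.b2
  d1 := H16.CvD1.d1 H38.CvBl.blS
  d2 := H52.CvD2.d2 H38.CvBl.blS
  d3a := H34.CvD3a.d3a
  d3b := H22.CvD3b.d3b H38.CvBl.blS
  d4 := H54.CvD4.d4
  off := H80.CvOff.off
  g2 := H9.CvG2.g2
  u2b := H89.CvU2b.u2b H47.CvU2a.u2a
  ls := H33.CvLs.ls
  uq2 := H33.CvLs.uq2

theorem c7 {F : Type u} [Field F] [Fintype F] (q : ℕ) (hF : Fintype.card F = q ^ 2) :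
    ∀ (p : ℕ) (R : Subgroup (Matrix.GeneralLinearGroup (Fin 11) F)), p.Prime → CharP F p → ((q = p ∧ p % 11 = 10) ∨ (q = p ^ 5 ∧ (p % 11 = 2 ∨ p % 11 = 6 ∨ p % 11 = 7 ∨ p % 11 = 8))) → Cfsg.Geo.IsSymplecticTypeGroup 11 R → Cfsg.Geo.ActsAbsolutelyIrreducibly (Cfsg.Geo.matrixSet R) → R ≤ Cfsg.GU 11 F q → Nat.card R = 1331 → Nat.card (Subgroup.center R) = 11 → Cfsg.Geo.IsMaximalIn (Cfsg.GU 11 F q ⊓ Cfsg.Geo.specialLinear (Fin 11) F) (Cfsg.Geo.subgroupNormalizer R ⊓ (Cfsg.GU 11 F q ⊓ Cfsg.Geo.specialLinear (Fin 11) F)) :=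
  fun _ _ hp hc hq h1 h2 h3 h4 h5 => pieces.c7 hF hp hc hq h1 h2 h3 h4 h5

end Cfsg.Agent.H73.CV
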