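import Cfsg.Agent.H44.K5Defs

set_option autoImplicit false

namespace Cfsg.Agent.H73.K5Herm

open Matrix Cfsg.Agent.H44.K5

theorem diag {m : ℕ} (A U : Matrix (Fin m) (Fin m) ℤ) (i j : Fin m) :
    (Uᵀ * A * U) i j = (fun r => U r i) ⬝ᵥ A *ᵥ (fun r => U r j) := by
  rw [Matrix.mul_assoc]
  simp [Matrix.mul_apply, dotProduct, mulVec]

theorem bil {m : ℕ} (B : Matrix (Fin (m + 1)) (Fin (m + 1)) ℤ) (hB : Bᵀ = B) (x x' : Fin (m + 1) → ℤ) :
    x ⬝ᵥ B *ᵥ x' = B 0 0 * x 0 * x' 0 + x 0 * (∑ j : Fin m, B 0 j.succ * x' j.succ) +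
      x' 0 * (∑ j : Fin m, B 0 j.succ * x j.succ) +
      ∑ i : Fin m, x i.succ * ∑ j : Fin m, B i.succ j.succ * x' j.succ := by
  have hs : ∀ i : Fin m, B i.succ 0 = B 0 i.succ := fun i => by
    conv_lhs => rw [← hB]
    rfl
  simp only [dotProduct, mulVec, Fin.sum_univ_succ, hs, mul_add, Finset.sum_add_distrib,
    Finset.mul_sum]
  have : ∑ i : Fin m, x i.succ * (B 0 i.succ * x' 0) = ∑ i : Fin m, x' 0 * (B 0 i.succ * x i.succ) :=
    Finset.sum_congr rfl fun i _ => by ring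
  rw [this]; ring

theorem det0 {m : ℕ} (M : Matrix (Fin (m + 1)) (Fin (m + 1)) ℤ) (h : ∀ i : Fin m, M i.succ 0 = 0) :
    M.det = M 0 0 * (M.submatrix Fin.succ Fin.succ).det := by
  rw [Matrix.det_succ_column_zero, Fin.sum_univ_succ]
  simp [h]

theorem herm : HermStmt := by
  intro n
  induction n with
  | zero => intro A _ _; exact ⟨1, by simp, by simp⟩
  | succ n ih =>
  intro A hA hpos
  classical
  have hcol : ∀ U : Matrix (Fin (n + 2)) (Fin (n + 2)) ℤ, IsUnit U.det → ∀ x : Fin (n + 2) → ℤ,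
      x ≠ 0 → 0 < x ⬝ᵥ (Uᵀ * A * U) *ᵥ x := by
    intro U hU x hx
    have h1 : U *ᵥ x ≠ 0 := fun h => hx (Matrix.eq_zero_of_mulVec_eq_zero hU.ne_zero h)
    have := hpos _ h1
    rwa [← Matrix.mulVec_mulVec, ← Matrix.mulVec_mulVec, Matrix.dotProduct_mulVec,
      Matrix.vecMul_transpose]
  have h00 : ∀ U : Matrix (Fin (n + 2)) (Fin (n + 2)) ℤ, IsUnit U.det → 0 < (Uᵀ * A * U) 0 0 := by
    intro U hU
    have := hcol U hU (Pi.single 0 1) (by simp)
    simpa using this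
  have hex : ∃ m : ℕ, ∃ U : Matrix (Fin (n + 2)) (Fin (n + 2)) ℤ, IsUnit U.det ∧
      (Uᵀ * A * U) 0 0 = m := ⟨_, 1, by simp, (Int.toNat_of_nonneg (h00 1 (by simp)).le).symm⟩
  obtain ⟨U, hU, hUa⟩ := Nat.find_spec hex
  refine ⟨U, hU, ?_⟩
  have hBpos := hcol U hU
  have ha0 := h00 U hU
  have hmin : ∀ W : Matrix (Fin (n + 2)) (Fin (n + 2)) ℤ, IsUnit W.det →
      (Uᵀ * A * U) 0 0 ≤ (Wᵀ * (Uᵀ * A * U) * W) 0 0 := by
    intro W hW
    have hUW : IsUnit (U * W).det := by rw [det_mul]; exact hU.mul hW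
    have e : Wᵀ * (Uᵀ * A * U) * W = (U * W)ᵀ * A * (U * W) := by
      simp only [transpose_mul, Matrix.mul_assoc]
    have h1 := Nat.find_min' hex ⟨U * W, hUW, (Int.toNat_of_nonneg (h00 _ hUW).le).symm⟩
    have h2 := h00 _ hUW
    rw [e, hUa]
    omega
  have hBd : (Uᵀ * A * U).det = A.det := by
    rw [det_mul, det_mul, det_transpose]
    rcases Int.isUnit_iff.mp hU with h | h <;> rw [h] <;> ring
  have hBs : (Uᵀ * A * U)ᵀ = Uᵀ * A * U := by
    simp only [transpose_mul, transpose_transpose, hA, Matrix.mul_assoc]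
  rw [← hBd]
  generalize Uᵀ * A * U = B at hBpos ha0 hmin hBs ⊢
  have hs : ∀ i j, B i j = B j i := fun i j => by
    conv_lhs => rw [← hBs]
    rfl
  let S : Matrix (Fin (n + 1)) (Fin (n + 1)) ℤ :=
    Matrix.of fun i j => B 0 0 * B i.succ j.succ - B 0 i.succ * B 0 j.succ
  have hS : ∀ y : Fin (n + 1) → ℤ, y ⬝ᵥ S *ᵥ y =
      B 0 0 * (∑ i, y i * ∑ j, B i.succ j.succ * y j) - (∑ j, B 0 j.succ * y j) ^ 2 := by
    intro y
    rw [sq, Finset.sum_mul_sum]
    simp only [dotProduct, mulVec, S, of_apply, Finset.mul_sum, ← Finset.sum_sub_distrib]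
    exact Finset.sum_congr rfl fun i _ => Finset.sum_congr rfl fun j _ => by ring
  have hSpos : ∀ y : Fin (n + 1) → ℤ, y ≠ 0 → 0 < y ⬝ᵥ S *ᵥ y := by
    intro y hy
    have h1 := hBpos (Fin.cons (-(∑ j, B 0 j.succ * y j)) (fun j => B 0 0 * y j)) (by
      intro h
      apply hy
      funext j
      have := congrFun h j.succ
      simp only [Fin.cons_succ, Pi.zero_apply] at this
      exact (mul_eq_zero.mp this).resolve_left ha0.ne')
    rw [bil B hBs] at h1
    simp only [Fin.cons_zero, Fin.cons_succ] at h1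
    have e1 : ∑ j : Fin (n + 1), B 0 j.succ * (B 0 0 * y j) = B 0 0 * ∑ j, B 0 j.succ * y j := by
      rw [Finset.mul_sum]; exact Finset.sum_congr rfl fun j _ => by ring
    have e2 : ∑ i : Fin (n + 1), B 0 0 * y i * ∑ j : Fin (n + 1), B i.succ j.succ * (B 0 0 * y j) =
        B 0 0 * B 0 0 * ∑ i, y i * ∑ j, B i.succ j.succ * y j := by
      simp only [Finset.mul_sum]
      exact Finset.sum_congr rfl fun i _ => Finset.sum_congr rfl fun j _ => by ring
    rw [e1, e2] at h1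
    rw [hS]
    refine (mul_pos_iff_of_pos_left ha0).mp ?_
    exact lt_of_lt_of_eq h1 (by ring)
  have hSd : S.det = B 0 0 ^ n * B.det := by
    let E : Matrix (Fin (n + 2)) (Fin (n + 2)) ℤ := Matrix.of fun i j =>
      Fin.cases (motive := fun _ => ℤ) (Fin.cases (motive := fun _ => ℤ) 1 (fun _ => 0) j)
        (fun i' => Fin.cases (motive := fun _ => ℤ) (-B 0 i'.succ)
          (fun j' => if i' = j' then B 0 0 else 0) j) i
    have hE : E.det = B 0 0 ^ (n + 1) := by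
      rw [← det_transpose, det0 _ (fun i => by simp [E])]
      have : Eᵀ.submatrix Fin.succ Fin.succ = diagonal fun _ => B 0 0 := by
        ext i j
        simp [E, diagonal_apply, eq_comm]
      rw [this]
      simp [E]
    have hEB : (E * B).det = B 0 0 * S.det := by
      rw [det0 _ (fun i => by
        rw [Matrix.mul_apply, Fin.sum_univ_succ]
        simp [E, hs i.succ 0]
        ring)]
      congr 1
      · rw [Matrix.mul_apply, Fin.sum_univ_succ]; simp [E]
      · congr 1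
        ext i j
        rw [submatrix_apply, Matrix.mul_apply, Fin.sum_univ_succ]
        simp [E, S]
        ring
    rw [det_mul, hE] at hEB
    refine mul_left_cancel₀ ha0.ne' ?_
    rw [← hEB]; ring
  obtain ⟨V, hV, hVb⟩ := ih S (by ext i j; simp only [transpose_apply, S, of_apply, hs j.succ i.succ]; ring) hSpos
  rw [diag, hS, hSd] at hVb
  set β := ∑ j, B 0 j.succ * V j 0 with hβ
  set γ := ∑ i, V i 0 * ∑ j, B i.succ j.succ * V j 0 with hγ
  set a := B 0 0 with ha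
  obtain ⟨k, hk⟩ : ∃ k : ℤ, 4 * (a * k + β) ^ 2 ≤ a ^ 2 := by
    refine ⟨-((2 * β + a) / (2 * a)), ?_⟩
    have h1 := Int.mul_ediv_add_emod (2 * β + a) (2 * a)
    have h2 := Int.emod_nonneg (2 * β + a) (by omega : 2 * a ≠ 0)
    have h3 := Int.emod_lt_of_pos (2 * β + a) (by omega : 0 < 2 * a)
    have h4 : 2 * (a * -((2 * β + a) / (2 * a)) + β) = (2 * β + a) % (2 * a) - a := by
      linear_combination -h1
    nlinarith [mul_nonneg h2 (sub_nonneg.mpr h3.le)]
  let W : Matrix (Fin (n + 2)) (Fin (n + 2)) ℤ := Matrix.of fun i j =>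
    Fin.cases (motive := fun _ => ℤ) (Fin.cases (motive := fun _ => ℤ) 1 (fun _ => k) j)
      (fun i' => Fin.cases (motive := fun _ => ℤ) 0 (fun j' => V i' j') j) i
  have hW : IsUnit W.det := by
    rw [det0 _ (fun i => by simp [W])]
    have : W.submatrix Fin.succ Fin.succ = V := by ext i j; simp [W]
    rw [this]; simpa [W] using hV
  have hW' : IsUnit (W.submatrix id (Equiv.swap 0 (Fin.succ 0))).det := by
    rw [det_permute']
    exact (Units.isUnit _).mul hW
  have h1 := hmin _ hW'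
  rw [diag, bil B hBs] at h1
  simp only [submatrix_apply, id, Equiv.swap_apply_left, W, of_apply, Fin.cases_zero, Fin.cases_succ] at h1
  rw [← hβ, ← hγ, ← ha] at h1
  have h2 : 3 * a ^ 2 ≤ 4 * (a * γ - β ^ 2) := by nlinarith [mul_le_mul_of_nonneg_left h1 ha0.le]
  have h3 := pow_le_pow_left₀ (by positivity) h2 (n + 1)
  have e : (n + 1) * (n + 1 + 1) / 2 = n * (n + 1) / 2 + (n + 1) := by
    have : (n + 1) * (n + 1 + 1) = n * (n + 1) + (n + 1) * 2 := by ring
    rw [this, Nat.add_mul_div_right _ _ (by norm_num)]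
  rw [e]
  refine le_of_mul_le_mul_left (a := a ^ n) ?_ (pow_pos ha0 n)
  calc a ^ n * (a ^ (n + 1 + 1) * 3 ^ (n * (n + 1) / 2 + (n + 1)))
      = (3 * a ^ 2) ^ (n + 1) * 3 ^ (n * (n + 1) / 2) := by ring
    _ ≤ (4 * (a * γ - β ^ 2)) ^ (n + 1) * 3 ^ (n * (n + 1) / 2) :=
        mul_le_mul_of_nonneg_right h3 (by positivity)
    _ = 4 ^ (n + 1) * ((a * γ - β ^ 2) ^ (n + 1) * 3 ^ (n * (n + 1) / 2)) := by
        rw [mul_pow, mul_assoc]
    _ ≤ 4 ^ (n + 1) * (4 ^ (n * (n + 1) / 2) * (a ^ n * B.det)) :=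
        mul_le_mul_of_nonneg_left hVb (by positivity)
    _ = _ := by ring

end Cfsg.Agent.H73.K5Herm
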