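import Cfsg.Agent.H73.LPDefs

/-! Arithmetic of the divisors of `p⁴ - 1` and the coprime action lemma. -/

set_option autoImplicit false
set_option linter.style.haveILetI false

namespace Cfsg.Agent.H73.LP

universe u

theorem pow_four_sub_one (p : ℕ) (hp : 1 ≤ p) :
    p ^ 4 - 1 = (p - 1) * ((p + 1) * (p ^ 2 + 1)) := by
  obtain ⟨k, rfl⟩ : ∃ k, p = k + 1 := ⟨p - 1, by omega⟩
  simp only [Nat.add_sub_cancel]
  have : (k + 1) ^ 4 = k * ((k + 1 + 1) * ((k + 1) ^ 2 + 1)) + 1 := by ring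
  omega

/-- `a ≡ 1 (mod p)` gives `a = 1` or `a ≥ p + 1`. -/
theorem eq_one_or_le_of_modEq {p a : ℕ} (hp : 2 ≤ p) (h : a ≡ 1 [MOD p]) : a = 1 ∨ p + 1 ≤ a := by
  have h1 : a % p = 1 := by
    have := h
    unfold Nat.ModEq at this
    rw [this]; exact Nat.mod_eq_of_lt (by omega)
  have h2 := Nat.div_add_mod a p
  rcases Nat.eq_zero_or_pos (a / p) with h0 | h0
  · left; rw [h0] at h2; omega
  · right
    have : p * 1 ≤ p * (a / p) := Nat.mul_le_mul_left p h0
    omega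

/-- if `d w + 1 = p m` and `d ≡ 1 (mod p)` then `w + 1 ≥ p`. -/
theorem le_cofactor {p d w m : ℕ} (h : d ≡ 1 [MOD p]) (hw : d * w + 1 = p * m) : p ≤ w + 1 := by
  have h1 : d * w + 1 ≡ 1 * w + 1 [MOD p] := (h.mul_right w).add_right 1
  rw [hw, one_mul] at h1
  have h2 : p ∣ w + 1 := (Nat.modEq_zero_iff_dvd).1
    (h1.symm.trans ((Nat.modEq_zero_iff_dvd).2 (Dvd.intro m rfl)))
  exact Nat.le_of_dvd (by omega) h2

/-- if `d w = p m + 1` and `d ≡ 1 (mod p)` then `w ≡ 1 (mod p)`. -/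
theorem cofactor_modEq {p d w m : ℕ} (h : d ≡ 1 [MOD p]) (hw : d * w = p * m + 1) :
    w ≡ 1 [MOD p] := by
  have h1 : d * w ≡ 1 * w [MOD p] := h.mul_right w
  rw [hw, one_mul] at h1
  refine h1.symm.trans ?_
  unfold Nat.ModEq
  rw [Nat.mul_add_mod]

theorem odd_sq_add_one {p : ℕ} (hp : Odd p) : ∃ k, p ^ 2 + 1 = 2 * (2 * k + 1) := by
  obtain ⟨a, rfl⟩ := hp
  exact ⟨a * a + a, by ring⟩

/-- A1: a prime power `≡ 1 (mod p)` that divides `(p⁴-1)/2`. -/
theorem primePow_cases {p r i : ℕ} (hp : p.Prime) (hp2 : p ≠ 2) (hr : r.Prime)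
    (hd : 2 * r ^ i ∣ p ^ 4 - 1) (hm : r ^ i ≡ 1 [MOD p]) :
    r ^ i = 1 ∨ (r = 2 ∧ r ^ i = p + 1) := by
  have hp3 : 3 ≤ p := by have := hp.two_le; omega
  have hodd : Odd p := hp.odd_of_ne_two hp2
  rcases eq_one_or_le_of_modEq hp.two_le hm with h1 | h1
  · exact Or.inl h1
  right
  rw [pow_four_sub_one p (by omega)] at hd
  obtain ⟨k, hk⟩ := odd_sq_add_one hodd
  obtain ⟨a, ha⟩ := hodd
  by_cases hr2 : r = 2
  · subst hr2
    refine ⟨rfl, ?_⟩
    have h2 : 2 ^ i ∣ ((p - 1) * (p + 1)) * (2 * k + 1) := by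
      have : (p - 1) * ((p + 1) * (p ^ 2 + 1)) = 2 * (((p - 1) * (p + 1)) * (2 * k + 1)) := by
        rw [hk]; ring
      rw [this] at hd
      exact Nat.dvd_of_mul_dvd_mul_left (by norm_num) hd
    have h3 : 2 ^ i ∣ (p - 1) * (p + 1) :=
      Nat.Coprime.dvd_of_dvd_mul_right
        (Nat.Coprime.pow_left i ((Nat.coprime_two_left).2 ⟨k, rfl⟩)) h2
    obtain ⟨w, hw⟩ := h3
    have h4 : 2 ^ i * w + 1 = p * p := by
      rw [← hw]
      obtain ⟨c, rfl⟩ : ∃ c, p = c + 1 := ⟨p - 1, by omega⟩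
      simp only [Nat.add_sub_cancel]; ring
    have h5 := le_cofactor hm h4
    have h6 : 2 ^ i * (p - 1) ≤ (p + 1) * (p - 1) := by
      calc 2 ^ i * (p - 1) ≤ 2 ^ i * w := Nat.mul_le_mul_left _ (by omega)
        _ = (p + 1) * (p - 1) := by rw [← hw, mul_comm]
    have h7 := Nat.le_of_mul_le_mul_right h6 (by omega)
    omega
  · exfalso
    have hd' : r ^ i ∣ (p - 1) * ((p + 1) * (p ^ 2 + 1)) := (Dvd.intro_left 2 rfl).trans hd
    have hrodd : ¬ r ∣ 2 := fun h => hr2 ((Nat.prime_dvd_prime_iff_eq hr Nat.prime_two).1 h)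
    have hio : Odd (r ^ i) := (hr.odd_of_ne_two hr2).pow
    obtain ⟨c, rfl⟩ : ∃ c, p = c + 1 := ⟨p - 1, by omega⟩
    simp only [Nat.add_sub_cancel] at hd'
    by_cases e1 : r ∣ c
    · have n2 : ¬ r ∣ (c + 1 + 1) * ((c + 1) ^ 2 + 1) := by
        intro h
        rcases (Nat.Prime.dvd_mul hr).1 h with h | h
        · exact hrodd ((Nat.dvd_add_right e1).1 (by simpa [add_assoc] using h))
        · have : (c + 1) ^ 2 + 1 = c * (c + 2) + 2 := by ring
          rw [this] at h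
          exact hrodd ((Nat.dvd_add_right (e1.mul_right _)).1 h)
      have := Nat.Coprime.dvd_of_dvd_mul_right
        (Nat.Coprime.pow_left i ((Nat.Prime.coprime_iff_not_dvd hr).2 n2)) hd'
      have := Nat.le_of_dvd (by omega) this
      omega
    · have hd2 := Nat.Coprime.dvd_of_dvd_mul_left
        (Nat.Coprime.pow_left i ((Nat.Prime.coprime_iff_not_dvd hr).2 e1)) hd'
      by_cases e2 : r ∣ (c + 1) ^ 2 + 1
      · have n2 : ¬ r ∣ c + 1 + 1 := by
          intro h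
          have : (c + 1) ^ 2 + 1 = (c + 1 + 1) * c + 2 := by ring
          rw [this] at e2
          exact hrodd ((Nat.dvd_add_right (h.mul_right _)).1 e2)
        obtain ⟨w, hw⟩ := Nat.Coprime.dvd_of_dvd_mul_left
          (Nat.Coprime.pow_left i ((Nat.Prime.coprime_iff_not_dvd hr).2 n2)) hd2
        have h5 : w ≡ 1 [MOD (c + 1)] :=
          cofactor_modEq (m := c + 1) hm (by rw [← hw]; ring)
        rcases eq_one_or_le_of_modEq (by omega) h5 with h6 | h6
        · rw [h6, mul_one, hk] at hw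
          obtain ⟨t, ht⟩ := hio
          omega
        · have : (c + 1 + 1) * (c + 1 + 1) ≤ r ^ i * w := Nat.mul_le_mul h1 h6
          rw [← hw] at this
          nlinarith
      · have := Nat.Coprime.dvd_of_dvd_mul_right
          (Nat.Coprime.pow_left i ((Nat.Prime.coprime_iff_not_dvd hr).2 e2)) hd2
        have h7 := Nat.le_of_dvd (by omega) this
        obtain ⟨t, ht⟩ := hio
        omega

/-- A2 -/
theorem le_of_dvd_of_modEq {p d : ℕ} (hp : 2 ≤ p) (hd : d ∣ p ^ 4 - 1) (hm : d ≡ 1 [MOD p]) :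
    d ≤ (p + 1) * (p ^ 2 + 1) := by
  obtain ⟨w, hw⟩ := hd
  have h0 : 1 ≤ p ^ 4 := Nat.one_le_pow _ _ (by omega)
  have h4 : d * w + 1 = p * p ^ 3 := by
    have : p * p ^ 3 = p ^ 4 := by ring
    rw [← hw, this]; omega
  have h5 := le_cofactor hm h4
  rw [pow_four_sub_one p (by omega)] at hw
  have h6 : d * (p - 1) ≤ ((p + 1) * (p ^ 2 + 1)) * (p - 1) := by
    calc d * (p - 1) ≤ d * w := Nat.mul_le_mul_left _ (by omega)
      _ = _ := by rw [← hw, mul_comm]
  exact Nat.le_of_mul_le_mul_right h6 (by omega)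

/-- A3 -/
theorem eq_sq_add_one {p d : ℕ} (hp : 2 ≤ p) (hd : d ∣ p ^ 4 - 1) (hm : d ≡ 1 [MOD p ^ 2])
    (h1 : d ≠ 1) : d = p ^ 2 + 1 := by
  obtain ⟨w, hw⟩ := hd
  have hq : 4 ≤ p ^ 2 := by nlinarith
  have h0 : p ^ 4 = p ^ 2 * p ^ 2 := by ring
  generalize p ^ 2 = q at *
  have h4 : d * w + 1 = q * q := by
    have : 1 ≤ q * q := Nat.one_le_iff_ne_zero.2 (by positivity)
    omega
  have h5 := le_cofactor hm h4
  rcases eq_one_or_le_of_modEq (by omega) hm with h6 | h6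
  · exact absurd h6 h1
  obtain ⟨c, rfl⟩ : ∃ c, q = c + 1 := ⟨q - 1, by omega⟩
  have h7 : d * c ≤ d * w := Nat.mul_le_mul_left _ (by omega)
  have h8 : d * c ≤ (c + 1 + 1) * c := by nlinarith
  have := Nat.le_of_mul_le_mul_right h8 (by omega)
  omega

variable {G : Type u} [Group G] [Finite G]

/-- fixed points of a `p`-group on a subgroup that it normalises. -/
theorem card_modEq_inf_centralizer {p : ℕ} [Fact p.Prime] {X U : Subgroup G} (hX : IsPGroup p X)
    (hn : X ≤ Subgroup.normalizer (U : Set G)) :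
    Nat.card U ≡ Nat.card ↥(U ⊓ Subgroup.centralizer (X : Set G)) [MOD p] := by
  letI : MulAction X U :=
    { smul := fun x u => ⟨x * u * x⁻¹, (Subgroup.mem_normalizer_iff.1 (hn x.2) u).1 u.2⟩
      one_smul := fun u => Subtype.ext (by
        change ((1 : X) : G) * u * ((1 : X) : G)⁻¹ = u
        simp)
      mul_smul := fun x y u => Subtype.ext (by
        change ((x * y : X) : G) * u * ((x * y : X) : G)⁻¹ = x * (y * u * (y : G)⁻¹) * (x : G)⁻¹
        simp [mul_assoc]) }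
  have h := hX.card_modEq_card_fixedPoints U
  refine h.trans ?_
  have e : MulAction.fixedPoints X U ≃ ↥(U ⊓ Subgroup.centralizer (X : Set G)) :=
    { toFun := fun u => ⟨u.1.1, u.1.2, by
        intro x hx
        have h1 : x * u.1.1 * x⁻¹ = u.1.1 := congrArg Subtype.val (u.2 ⟨x, hx⟩)
        rw [mul_inv_eq_iff_eq_mul] at h1
        exact h1⟩
      invFun := fun u => ⟨⟨u.1, u.2.1⟩, fun x => Subtype.ext (by
        change (x : G) * u.1 * (x : G)⁻¹ = u.1
        rw [mul_inv_eq_iff_eq_mul]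
        exact u.2.2 x x.2)⟩
      left_inv := fun _ => rfl
      right_inv := fun _ => rfl }
  rw [Nat.card_congr e]

theorem pCop : PCop.{u} := by
  intro G _ _ p r hp hp2 hr hrp hO X U hX hU hn
  haveI := Fact.mk hp
  haveI := Fact.mk hr
  have h1 := card_modEq_inf_centralizer hX hn
  set C := U ⊓ Subgroup.centralizer (X : Set G) with hC
  obtain ⟨a, ha⟩ := IsPGroup.iff_card.1 hU
  obtain ⟨d, hd⟩ : Nat.card C ∣ Nat.card U := Subgroup.card_dvd_of_le inf_le_left
  have hdd : d ∣ r ^ a := by rw [← ha, hd]; exact Dvd.intro_left _ rfl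
  obtain ⟨i, -, rfl⟩ := (Nat.dvd_prime_pow hr).1 hdd
  have hcop : Nat.Coprime p (Nat.card U) := by
    rw [ha]; exact Nat.Coprime.pow_right _ ((Nat.coprime_primes hp hr).2 hrp.symm)
  have hcC : Nat.Coprime p (Nat.card C) := by
    rw [hd] at hcop; exact Nat.Coprime.coprime_mul_right_right hcop
  have hm : r ^ i ≡ 1 [MOD p] := by
    rw [hd] at h1
    have h2 : Nat.card C * r ^ i ≡ Nat.card C * 1 [MOD p] := by rwa [mul_one]
    exact Nat.ModEq.cancel_left_of_coprime hcC h2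
  have hdiv : 2 * r ^ i ∣ p ^ 4 - 1 := by
    have h3 : 2 * r ^ i ∣ p ^ 2 * (p ^ 4 - 1) := by
      refine Dvd.dvd.trans (Nat.mul_dvd_mul_left 2 ?_) hO
      exact (Dvd.intro_left _ hd.symm).trans (Subgroup.card_subgroup_dvd_card U)
    refine Nat.Coprime.dvd_of_dvd_mul_left ?_ h3
    refine Nat.Coprime.pow_right _ (Nat.Coprime.mul_left ?_ ?_)
    · exact (Nat.coprime_primes Nat.prime_two hp).2 hp2.symm
    · exact Nat.Coprime.pow_left _ ((Nat.coprime_primes hr hp).2 hrp)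
  rcases primePow_cases hp hp2 hr hdiv hm with h | ⟨h, h'⟩
  · left
    rw [h, mul_one] at hd
    have : C = U := Subgroup.eq_of_le_of_card_ge inf_le_left hd.le
    rw [Subgroup.le_centralizer_iff]
    rw [← this]; exact inf_le_right
  · right
    exact ⟨h, by rw [hd, h', mul_comm]⟩

end Cfsg.Agent.H73.LP
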