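import Mathlib.GroupTheory.Schreier
import Cfsg.Agent.H73.LP1

/-! Brauer-Reynolds modulo a central subgroup. -/

set_option autoImplicit false
set_option linter.style.haveILetI false

namespace Cfsg.Agent.H73.LP

universe u

open Subgroup

variable {C : Type u} [Group C] [Finite C]

omit [Finite C] in
theorem normalizer_sup_central {p : ℕ} [Fact p.Prime] (P : Sylow p C) {Z : Subgroup C}
    (hZ : Z ≤ center C) :
    normalizer (((P : Subgroup C) ⊔ Z : Subgroup C) : Set C) ≤ normalizer ((P : Subgroup C) : Set C) := by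
  have h1 : (P : Subgroup C) ⊔ Z ≤ normalizer ((P : Subgroup C) : Set C) :=
    sup_le le_normalizer (hZ.trans (center_le_normalizer _))
  intro g hg
  have h2 : ((g • P : Sylow p C) : Subgroup C) ≤ normalizer ((P : Subgroup C) : Set C) := by
    intro x hx
    apply h1
    have hx' : g⁻¹ * x * g ∈ (P : Subgroup C) := by
      rw [Sylow.coe_subgroup_smul, Subgroup.mem_pointwise_smul_iff_inv_smul_mem] at hx
      simpa using hx
    have := (mem_normalizer_iff.1 hg (g⁻¹ * x * g)).1 (le_sup_left (b := Z) hx')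
    simpa [mul_assoc] using this
  have h3 := (g • P).isPGroup'.inf_normalizer_sylow P
  have h4 : ((g • P : Sylow p C) : Subgroup C) ≤ P := by
    have : ((g • P : Sylow p C) : Subgroup C) ⊓ normalizer ((P : Subgroup C) : Set C) = ↑(g • P) :=
      inf_eq_left.2 h2
    rw [← this]
    exact h3.le.trans inf_le_right
  have h5 : g • P = P := Sylow.ext ((g • P).is_maximal' P.isPGroup' h4).symm
  exact Sylow.smul_eq_iff_mem_normalizer.1 h5

theorem not_dvd_derived_succ {p : ℕ} [hp : Fact p.Prime] {Z : Subgroup C} [Z.Normal]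
    (hZ : Z ≤ center C) {n : ℕ} (h : ¬ p ∣ Nat.card (derivedSeries (C ⧸ Z) n)) :
    ¬ p ∣ Nat.card (derivedSeries C (n + 1)) := by
  set D := derivedSeries C n with hD
  have h1 : D.map (QuotientGroup.mk' Z) = derivedSeries (C ⧸ Z) n :=
    map_derivedSeries_eq (QuotientGroup.mk'_surjective Z) n
  have h2 : (Z.subgroupOf D).index = Nat.card (derivedSeries (C ⧸ Z) n) := by
    rw [← h1]
    have := relIndex_ker (K := D) (QuotientGroup.mk' Z)
    rw [QuotientGroup.ker_mk'] at this
    exact this
  have h3 : Z.subgroupOf D ≤ center D := by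
    intro z hz
    rw [mem_center_iff]
    intro g
    exact Subtype.ext (mem_center_iff.1 (hZ hz) g)
  have h4 : (center D).index ∣ (Z.subgroupOf D).index := index_dvd_of_le h3
  have h5 := card_commutator_dvd_index_center_pow D
  have h6 : derivedSeries C (n + 1) = (_root_.commutator D).map D.subtype := by
    rw [derivedSeries_succ, ← hD, _root_.commutator, map_commutator, ← MonoidHom.range_eq_map,
      range_subtype]
  rw [h6, card_map_of_injective D.subtype_injective]
  intro hd
  exact h (h2 ▸ (hp.out.dvd_of_dvd_pow (hd.trans h5)).trans h4)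

/-- Brauer-Reynolds in `C/Z` for a central subgroup `Z`. -/
theorem brz (hBR : PBR.{u}) {p : ℕ} [Fact p.Prime] (hp5 : 5 ≤ p) (P : Sylow p C) {Z : Subgroup C}
    (hZ : Z ≤ center C) (hP : Z.relIndex (P : Subgroup C) = p)
    (hn : Nat.card (Sylow p C) ^ 2 ≤ 2 * ((p + 1) * (p ^ 2 + 1))) :
    (p - 1) * Nat.card Z ∣ 2 * Nat.card (normalizer ((P : Subgroup C) : Set C)) ∨
      ∃ n : ℕ, ¬ p ∣ Nat.card (derivedSeries C n) := by
  haveI : Z.Normal := ⟨fun z hz g => by
    rw [mem_center_iff.1 (hZ hz) g, mul_inv_cancel_right]; exact hz⟩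
  have hf := QuotientGroup.mk'_surjective Z
  set R : Sylow p (C ⧸ Z) := P.mapSurjective hf with hR
  have hRc : Nat.card (R : Subgroup (C ⧸ Z)) = p := by
    rw [hR, Sylow.coe_mapSurjective, ← relIndex_ker, QuotientGroup.ker_mk', hP]
  have hle : Nat.card (Sylow p (C ⧸ Z)) ≤ Nat.card (Sylow p C) :=
    Nat.card_le_card_of_surjective _ (Sylow.mapSurjective_surjective hf p)
  rcases hBR (C ⧸ Z) p R hp5 hRc ((Nat.pow_le_pow_left hle 2).trans hn) with h | ⟨n, h⟩
  · left
    set N := normalizer ((R : Subgroup (C ⧸ Z)) : Set (C ⧸ Z)) with hN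
    have h1 : N.comap (QuotientGroup.mk' Z) =
        normalizer (((P : Subgroup C) ⊔ Z : Subgroup C) : Set C) := by
      rw [hN, comap_normalizer_eq_of_surjective _ hf, hR, Sylow.coe_mapSurjective,
        comap_map_eq, QuotientGroup.ker_mk']
    have h2 : Nat.card (N.comap (QuotientGroup.mk' Z)) = Nat.card N * Nat.card Z := by
      have e1 := (N.comap (QuotientGroup.mk' Z)).card_mul_index
      have e2 := N.card_mul_index
      have e3 := card_eq_card_quotient_mul_card_subgroup Z
      rw [index_comap_of_surjective _ hf] at e1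
      have e4 : 0 < N.index := Nat.pos_of_ne_zero index_ne_zero_of_finite
      apply Nat.eq_of_mul_eq_mul_right e4
      rw [e1, e3, ← e2]; ring
    have h3 : Nat.card N * Nat.card Z ∣ Nat.card (normalizer ((P : Subgroup C) : Set C)) := by
      rw [← h2, h1]; exact card_dvd_of_le (normalizer_sup_central P hZ)
    calc (p - 1) * Nat.card Z ∣ (2 * Nat.card N) * Nat.card Z := Nat.mul_dvd_mul_right h _
      _ = 2 * (Nat.card N * Nat.card Z) := by ring
      _ ∣ _ := Nat.mul_dvd_mul_left 2 h3
  · exact Or.inr ⟨n + 1, not_dvd_derived_succ hZ h⟩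

omit [Finite C] in
theorem OrdDvd.subgroup {p : ℕ} (h : OrdDvd p C) (H : Subgroup C) : OrdDvd p H :=
  (Nat.mul_dvd_mul_left 2 (card_subgroup_dvd_card H)).trans h

end Cfsg.Agent.H73.LP
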