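import Mathlib.GroupTheory.Perm.Cycle.Type
import Mathlib.GroupTheory.GroupAction.MultipleTransitivity
import Cfsg.Agent.H73.LP2

/-! The TI case: the centraliser of a reflection in the two-point stabiliser. -/

set_option autoImplicit false
set_option linter.style.haveILetI false
set_option linter.unusedSectionVars false

namespace Cfsg.Agent.H73.LP

universe u

open Subgroup MulAction

/-- `Γ` acts on `p² + 1` points, `P ⊴ Γ_a` has order `p²` and is transitive off `a`. -/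
structure TISet (p : ℕ) (Γ : Type u) [Group Γ] (Ω : Type u) [MulAction Γ Ω] (a : Ω)
    (P : Subgroup Γ) : Prop where
  ord : OrdDvd p Γ
  cardΩ : Nat.card Ω = p ^ 2 + 1
  cardP : Nat.card P = p ^ 2
  fix : ∀ u ∈ P, u • a = a
  norm : ∀ g : Γ, g • a = a → ∀ u ∈ P, g * u * g⁻¹ ∈ P
  reg : ∀ b c : Ω, b ≠ a → c ≠ a → ∃ u ∈ P, u • b = c
  tr : ∀ b c : Ω, ∃ g : Γ, g • b = c
  faith : ∀ g : Γ, (∀ x : Ω, g • x = x) → g = 1

/-- product decomposition of a group acting with a regular subgroup. -/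
theorem card_eq_mul_of_reg {Γ : Type u} [Group Γ] {Ω : Type u} [MulAction Γ Ω] (b : Ω)
    (C P : Subgroup Γ) (hs : ∀ u ∈ P, u • b = b → u = 1)
    (ht : ∀ c ∈ C, ∃ u ∈ C ⊓ P, u • b = c • b) :
    Nat.card C = Nat.card ↥(C ⊓ P) * Nat.card ↥(C ⊓ stabilizer Γ b) := by
  rw [← Nat.card_prod]
  symm
  refine Nat.card_congr (Equiv.ofBijective
    (fun x => (⟨x.1.1 * x.2.1, C.mul_mem x.1.2.1 x.2.2.1⟩ : C)) ⟨?_, ?_⟩)
  · rintro ⟨⟨u, hu⟩, ⟨h, hh⟩⟩ ⟨⟨u', hu'⟩, ⟨h', hh'⟩⟩ e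
    have e1 : u * h = u' * h' := congrArg Subtype.val e
    have e2 : (u'⁻¹ * u) • b = b := by
      have : u'⁻¹ * u = h' * h⁻¹ := by
        rw [inv_mul_eq_iff_eq_mul, ← mul_assoc, ← e1, mul_inv_cancel_right]
      rw [this]
      exact (stabilizer Γ b).mul_mem hh'.2 ((stabilizer Γ b).inv_mem hh.2)
    have e3 : u = u' := by
      have := hs _ (P.mul_mem (P.inv_mem hu'.2) hu.2) e2
      rw [inv_mul_eq_one] at this
      exact this.symm
    subst e3
    have e4 : h = h' := mul_left_cancel e1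
    subst e4
    rfl
  · rintro ⟨c, hc⟩
    obtain ⟨u, hu, e⟩ := ht c hc
    refine ⟨⟨⟨u, hu⟩, ⟨u⁻¹ * c, C.mul_mem (C.inv_mem hu.1) hc, ?_⟩⟩, Subtype.ext (by simp)⟩
    change (u⁻¹ * c) • b = b
    rw [mul_smul, ← e, inv_smul_smul]

theorem conj_comm_of_card_dvd {Γ : Type u} [Group Γ] [Finite Γ] {p : ℕ} (hp : p.Prime)
    {A : Subgroup Γ} (hA : Nat.card A ∣ p) {v h k : Γ} (hv : v ∈ A) (hh : h * v * h⁻¹ ∈ A)
    (hk : k * v * k⁻¹ ∈ A) : h * k * v * (h * k)⁻¹ = k * h * v * (k * h)⁻¹ := by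
  by_cases h1 : v = 1
  · subst h1; simp
  have hc : Nat.card A = p := by
    rcases (Nat.dvd_prime hp).1 hA with h2 | h2
    · exact absurd (mem_bot.1 (card_eq_one.1 h2 ▸ hv)) h1
    · exact h2
  haveI := Fact.mk hp
  have key : ∀ w ∈ A, ∃ i : ℤ, v ^ i = w := by
    intro w hw
    obtain ⟨i, hi⟩ := mem_zpowers_of_prime_card hc (g := ⟨v, hv⟩) (g' := ⟨w, hw⟩)
      (fun e => h1 (congrArg Subtype.val e))
    exact ⟨i, by simpa using congrArg Subtype.val hi⟩
  obtain ⟨i, hi⟩ := key _ hh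
  obtain ⟨j, hj⟩ := key _ hk
  have e1 : h * k * v * (h * k)⁻¹ = h * (k * v * k⁻¹) * h⁻¹ := by group
  have e2 : k * h * v * (k * h)⁻¹ = k * (h * v * h⁻¹) * k⁻¹ := by group
  rw [e1, e2, ← hj, ← conj_zpow, ← hi, ← conj_zpow, ← hj, ← zpow_mul, ← zpow_mul, mul_comm]

namespace TISet

variable {p : ℕ} [hp : Fact p.Prime] {Γ : Type u} [Group Γ] [Finite Γ] {Ω : Type u} [Finite Ω]
  [MulAction Γ Ω] {a : Ω} {P : Subgroup Γ}

theorem ne_a (_h : TISet p Γ Ω a P) {g : Γ} (hg : g • a = a) {b : Ω} (hb : b ≠ a) : g • b ≠ a := by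
  intro e
  exact hb (MulAction.injective g (e.trans hg.symm))

theorem semireg (h : TISet p Γ Ω a P) {u : Γ} (hu : u ∈ P) {b : Ω} (hb : b ≠ a) (e : u • b = b) :
    u = 1 := by
  have h1 : orbit P b = {a}ᶜ := by
    ext c
    constructor
    · rintro ⟨v, rfl⟩
      exact h.ne_a (h.fix v v.2) hb
    · intro hc
      obtain ⟨v, hv, e⟩ := h.reg b c hb hc
      exact ⟨⟨v, hv⟩, e⟩
  have h2 : (stabilizer P b).index = p ^ 2 := by
    rw [index_stabilizer, h1]
    have := Set.ncard_add_ncard_compl ({a} : Set Ω)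
    rw [Set.ncard_singleton, h.cardΩ] at this
    omega
  have h3 := (stabilizer P b).card_mul_index
  rw [h2, h.cardP] at h3
  have h4 : Nat.card (stabilizer P b) = 1 := by
    have : 0 < p ^ 2 := pow_pos hp.out.pos 2
    exact Nat.eq_of_mul_eq_mul_right this (by rw [h3, one_mul])
  have h5 : (⟨u, hu⟩ : P) ∈ stabilizer P b := e
  rw [card_eq_one.1 h4] at h5
  exact congrArg Subtype.val (mem_bot.1 h5)

theorem two_trans (h : TISet p Γ Ω a P) : IsMultiplyPretransitive Γ Ω 2 := by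
  rw [is_two_pretransitive_iff]
  intro x y z w hxy hzw
  obtain ⟨g1, e1⟩ := h.tr x a
  obtain ⟨g2, e2⟩ := h.tr z a
  obtain ⟨u, hu, e⟩ := h.reg (g1 • y) (g2 • w)
    (fun e => hxy (MulAction.injective g1 (e1.trans e.symm)))
    (fun e => hzw (MulAction.injective g2 (e2.trans e.symm)))
  refine ⟨g2⁻¹ * u * g1, ?_, ?_⟩
  · rw [mul_smul, mul_smul, e1, h.fix u hu, ← e2, inv_smul_smul]
  · rw [mul_smul, mul_smul, e, inv_smul_smul]

theorem eq_one_of_comm (h : TISet p Γ Ω a P) {b : Ω} (hb : b ≠ a) {g : Γ} (ha : g • a = a)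
    (hg : g • b = b) (hc : ∀ u ∈ P, g * u = u * g) : g = 1 := by
  apply h.faith
  intro x
  by_cases hx : x = a
  · rw [hx, ha]
  · obtain ⟨u, hu, rfl⟩ := h.reg b x hb hx
    rw [← mul_smul, hc u hu, mul_smul, hg]

theorem comm (h : TISet p Γ Ω a P) {u v : Γ} (hu : u ∈ P) (hv : v ∈ P) : u * v = v * u := by
  haveI := IsPGroup.isMulCommutative_of_card_eq_prime_sq h.cardP
  exact congrArg Subtype.val (mul_comm' (⟨u, hu⟩ : P) ⟨v, hv⟩)

theorem card_group (h : TISet p Γ Ω a P) {b : Ω} (hb : b ≠ a) :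
    Nat.card Γ = Nat.card ↥(stabilizer Γ a ⊓ stabilizer Γ b) * (p ^ 2 * (p ^ 2 + 1)) := by
  haveI : IsPretransitive Γ Ω := ⟨h.tr⟩
  have h1 := (stabilizer Γ a).card_mul_index
  rw [index_stabilizer_of_transitive, h.cardΩ] at h1
  have h2 := card_eq_mul_of_reg b (stabilizer Γ a) P (fun u hu e => h.semireg hu hb e)
    (fun c hc => by
      obtain ⟨u, hu, e⟩ := h.reg b (c • b) hb (h.ne_a hc hb)
      exact ⟨u, ⟨h.fix u hu, hu⟩, e⟩)
  have h3 : stabilizer Γ a ⊓ P = P := inf_eq_right.2 fun u hu => h.fix u hu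
  rw [h3, h.cardP] at h2
  rw [← h1, h2]; ring

theorem card_H_dvd (h : TISet p Γ Ω a P) {b : Ω} (hb : b ≠ a) :
    2 * Nat.card ↥(stabilizer Γ a ⊓ stabilizer Γ b) ∣ (p - 1) * (p + 1) := by
  have h1 := h.ord
  unfold OrdDvd at h1
  rw [h.card_group hb, pow_four_sub_one p hp.out.pos] at h1
  have h2 : 0 < p ^ 2 * (p ^ 2 + 1) := by have := hp.out.pos; positivity
  apply Nat.dvd_of_mul_dvd_mul_right h2
  convert h1 using 1 <;> ring

section refl

variable {b ω : Ω} {s : Γ}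

/-- a fixed point of `s` is the image of `b` under an element of `C_P(s)`. -/
theorem exists_cent (h : TISet p Γ Ω a P) (hb : b ≠ a) (sa : s • a = a) (sb : s • b = b) {x : Ω}
    (hx : x ≠ a) (sx : s • x = x) : ∃ u ∈ centralizer ({s} : Set Γ) ⊓ P, u • b = x := by
  obtain ⟨u, hu, e⟩ := h.reg b x hb hx
  refine ⟨u, ⟨?_, hu⟩, e⟩
  have h1 : (u⁻¹ * (s * u * s⁻¹)) • b = b := by
    rw [mul_smul, mul_smul, mul_smul, inv_smul_eq_iff.2 sb.symm, e, sx, ← e, inv_smul_smul]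
  have h2 := h.semireg (P.mul_mem (P.inv_mem hu) (h.norm s sa u hu)) hb h1
  rw [inv_mul_eq_one, eq_mul_inv_iff_mul_eq] at h2
  exact mem_centralizer_singleton_iff.2 h2

theorem card_R (h : TISet p Γ Ω a P) (hb : b ≠ a) (sa : s • a = a) (sb : s • b = b) (hs1 : s ≠ 1)
    (hω : ω ≠ a) (hωb : ω ≠ b) (sω : s • ω = ω) :
    Nat.card ↥(centralizer ({s} : Set Γ) ⊓ P) = p := by
  have h1 : Nat.card ↥(centralizer ({s} : Set Γ) ⊓ P) ∣ p ^ 2 :=
    h.cardP ▸ card_dvd_of_le inf_le_right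
  obtain ⟨i, hi, e⟩ := (Nat.dvd_prime_pow hp.out).1 h1
  interval_cases i
  · exfalso
    obtain ⟨u, hu, e'⟩ := h.exists_cent hb sa sb hω sω
    rw [pow_zero] at e
    rw [card_eq_one.1 e, mem_bot] at hu
    rw [hu, one_smul] at e'
    exact hωb e'.symm
  · simpa using e
  · exfalso
    have h2 : centralizer ({s} : Set Γ) ⊓ P = P :=
      eq_of_le_of_card_ge inf_le_right (by rw [e, h.cardP])
    refine hs1 (h.eq_one_of_comm hb sa sb fun u hu => ?_)
    rw [← h2] at hu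
    exact (mem_centralizer_singleton_iff.1 hu.1).symm

theorem ncard_fix (h : TISet p Γ Ω a P) (hb : b ≠ a) (sa : s • a = a) (sb : s • b = b)
    (hR : Nat.card ↥(centralizer ({s} : Set Γ) ⊓ P) = p) :
    {x : Ω | s • x = x}.ncard = p + 1 := by
  have h1 : {x : Ω | s • x = x} =
      insert a (Set.range fun u : ↥(centralizer ({s} : Set Γ) ⊓ P) => (u : Γ) • b) := by
    ext x
    simp only [Set.mem_ofPred_eq, Set.mem_insert_iff, Set.mem_range]
    constructor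
    · intro sx
      by_cases hx : x = a
      · exact Or.inl hx
      · obtain ⟨u, hu, e⟩ := h.exists_cent hb sa sb hx sx
        exact Or.inr ⟨⟨u, hu⟩, e⟩
    · rintro (rfl | ⟨u, rfl⟩)
      · exact sa
      · rw [← mul_smul, ← mem_centralizer_singleton_iff.1 u.2.1, mul_smul, sb]
  rw [h1, Set.ncard_insert_of_notMem, Set.ncard_range_of_injective, hR]
  · intro u v e
    have e1 : ((v : Γ)⁻¹ * u) • b = b := by
      rw [mul_smul, inv_smul_eq_iff]; exact e
    have := h.semireg (P.mul_mem (P.inv_mem v.2.2) u.2.2) hb e1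
    rw [inv_mul_eq_one] at this
    exact Subtype.ext this.symm
  · rintro ⟨u, e⟩
    exact h.ne_a (h.fix u u.2.2) hb e

/-- `C(s)` is transitive on the fixed points of `s`. -/
theorem orbit_cent (h : TISet p Γ Ω a P) (hb : b ≠ a) (sa : s • a = a) (sb : s • b = b)
    (hω : ω ≠ a) (hωb : ω ≠ b) (sω : s • ω = ω) :
    orbit (centralizer ({s} : Set Γ)) a = {x : Ω | s • x = x} := by
  -- an element of `C(s)` that maps `a` to `ω`
  obtain ⟨g, hg⟩ := h.tr a b
  have hga : g⁻¹ • a ≠ a := by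
    rw [Ne, inv_smul_eq_iff, hg]; exact hb.symm
  have hgω : g⁻¹ • ω ≠ a := by
    rw [Ne, inv_smul_eq_iff, hg]; exact hωb
  obtain ⟨u, hu, e⟩ := h.exists_cent (s := g⁻¹ * s * g) hga
    (by rw [mul_smul, mul_smul, hg, sb, ← hg, inv_smul_smul])
    (by rw [mul_smul, mul_smul, smul_inv_smul, sa]) hgω
    (by rw [mul_smul, mul_smul, smul_inv_smul, sω])
  have hv : g * u * g⁻¹ ∈ centralizer ({s} : Set Γ) := by
    rw [mem_centralizer_singleton_iff]
    have := mem_centralizer_singleton_iff.1 hu.1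
    calc g * u * g⁻¹ * s = g * (u * (g⁻¹ * s * g)) * g⁻¹ := by group
      _ = s * (g * u * g⁻¹) := by rw [this]; group
  have ev : (g * u * g⁻¹) • a = ω := by rw [mul_smul, mul_smul, e, smul_inv_smul]
  ext x
  constructor
  · rintro ⟨c, rfl⟩
    change s • ((c : Γ) • a) = (c : Γ) • a
    rw [← mul_smul, ← mem_centralizer_singleton_iff.1 c.2, mul_smul, sa]
  · intro sx
    by_cases hx : x = a
    · rw [hx]; exact mem_orbit_self a
    · obtain ⟨w, hw, e'⟩ := h.exists_cent hω sa sω hx sx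
      refine ⟨⟨w * (g * u * g⁻¹), mul_mem hw.1 hv⟩, ?_⟩
      change (w * (g * u * g⁻¹)) • a = x
      rw [mul_smul, ev, e']

theorem card_Ca (h : TISet p Γ Ω a P) (hb : b ≠ a) (sa : s • a = a) (sb : s • b = b)
    (hR : Nat.card ↥(centralizer ({s} : Set Γ) ⊓ P) = p) :
    Nat.card ↥(centralizer ({s} : Set Γ) ⊓ stabilizer Γ a) =
      p * Nat.card ↥(centralizer ({s} : Set Γ) ⊓ (stabilizer Γ a ⊓ stabilizer Γ b)) := by
  have h2 := card_eq_mul_of_reg b (centralizer ({s} : Set Γ) ⊓ stabilizer Γ a) P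
    (fun u hu e => h.semireg hu hb e)
    (fun c hc => by
      obtain ⟨u, hu, e⟩ := h.exists_cent hb sa sb (h.ne_a hc.2 hb) (x := c • b) (by
        rw [← mul_smul, ← mem_centralizer_singleton_iff.1 hc.1, mul_smul, sb])
      exact ⟨u, ⟨⟨hu.1, h.fix u hu.2⟩, hu.2⟩, e⟩)
  have h3 : centralizer ({s} : Set Γ) ⊓ stabilizer Γ a ⊓ P = centralizer ({s} : Set Γ) ⊓ P := by
    rw [inf_assoc, show stabilizer Γ a ⊓ P = P from inf_eq_right.2 fun u hu => h.fix u hu]
  rw [h2, h3, hR, inf_assoc]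

/-- `C_H(s)` is abelian. -/
theorem cent_comm (h : TISet p Γ Ω a P) (hp2 : p ≠ 2) (hb : b ≠ a) (sa : s • a = a)
    (hs2 : s * s = 1) (hR : Nat.card ↥(centralizer ({s} : Set Γ) ⊓ P) = p) {x y : Γ}
    (hx : x ∈ centralizer ({s} : Set Γ) ⊓ (stabilizer Γ a ⊓ stabilizer Γ b))
    (hy : y ∈ centralizer ({s} : Set Γ) ⊓ (stabilizer Γ a ⊓ stabilizer Γ b)) : x * y = y * x := by
  have hsi : s⁻¹ = s := inv_eq_of_mul_eq_one_right hs2
  let Rm : Subgroup Γ :=
    { carrier := {v | v ∈ P ∧ s * v * s⁻¹ = v⁻¹}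
      one_mem' := ⟨P.one_mem, by simp⟩
      mul_mem' := fun {v w} hv hw => ⟨P.mul_mem hv.1 hw.1, by
        have : s * (v * w) * s⁻¹ = (s * v * s⁻¹) * (s * w * s⁻¹) := by group
        rw [this, hv.2, hw.2, h.comm hv.1 hw.1, mul_inv_rev]⟩
      inv_mem' := fun {v} hv => ⟨P.inv_mem hv.1, by
        have : s * v⁻¹ * s⁻¹ = (s * v * s⁻¹)⁻¹ := by group
        rw [this, hv.2]⟩ }
  have hodd : ∀ u ∈ P, Nat.Coprime 2 (orderOf u) := by
    intro u hu
    have h1 : orderOf u ∣ p ^ 2 := h.cardP ▸ P.orderOf_dvd_natCard hu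
    exact Nat.Coprime.coprime_dvd_right h1
      (Nat.Coprime.pow_right _ ((Nat.coprime_primes Nat.prime_two hp.out).2 hp2.symm))
  have hRm : Nat.card Rm ∣ p := by
    have hle : Rm ≤ P := fun v hv => hv.1
    have h1 : Nat.card Rm ∣ p ^ 2 := h.cardP ▸ card_dvd_of_le hle
    obtain ⟨i, hi, e⟩ := (Nat.dvd_prime_pow hp.out).1 h1
    interval_cases i
    · rw [e]; simp
    · rw [e]; simp
    · exfalso
      have h2 : Rm = P := eq_of_le_of_card_ge hle (by rw [e, h.cardP])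
      have h3 : centralizer ({s} : Set Γ) ⊓ P = ⊥ := by
        rw [eq_bot_iff]
        intro v hv
        have h4 : v ∈ Rm := h2 ▸ hv.2
        have h5 : s * v * s⁻¹ = v := by
          rw [← mem_centralizer_singleton_iff.1 hv.1, mul_inv_cancel_right]
        have h6 : v ^ 2 = 1 := by
          rw [sq, ← eq_inv_iff_mul_eq_one, ← h4.2, h5]
        have h7 : orderOf v = 1 :=
          Nat.Coprime.eq_one_of_dvd (hodd v hv.2).symm (orderOf_dvd_of_pow_eq_one h6)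
        exact mem_bot.2 (orderOf_eq_one_iff.1 h7)
      rw [h3, card_bot] at hR
      exact hp.out.one_lt.ne hR
  have hconj : ∀ z ∈ centralizer ({s} : Set Γ) ⊓ (stabilizer Γ a ⊓ stabilizer Γ b), ∀ v : Γ,
      s * (z * v * z⁻¹) * s⁻¹ = z * (s * v * s⁻¹) * z⁻¹ := by
    intro z hz v
    have := mem_centralizer_singleton_iff.1 hz.1
    calc s * (z * v * z⁻¹) * s⁻¹ = (s * z) * v * (s * z)⁻¹ := by group
      _ = _ := by rw [← this]; group
  have hp1 : ∀ z ∈ centralizer ({s} : Set Γ) ⊓ (stabilizer Γ a ⊓ stabilizer Γ b),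
      ∀ v ∈ centralizer ({s} : Set Γ) ⊓ P, z * v * z⁻¹ ∈ centralizer ({s} : Set Γ) ⊓ P :=
    fun z hz v hv => ⟨(centralizer ({s} : Set Γ)).mul_mem
      ((centralizer ({s} : Set Γ)).mul_mem hz.1 hv.1) ((centralizer ({s} : Set Γ)).inv_mem hz.1),
      h.norm z hz.2.1 v hv.2⟩
  have hm1 : ∀ z ∈ centralizer ({s} : Set Γ) ⊓ (stabilizer Γ a ⊓ stabilizer Γ b),
      ∀ v ∈ Rm, z * v * z⁻¹ ∈ Rm :=
    fun z hz v hv => ⟨h.norm z hz.2.1 v hv.1, by rw [hconj z hz, hv.2]; group⟩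
  have hH := mul_mem (inv_mem (mul_mem hy hx)) (mul_mem hx hy)
  have key : (y * x)⁻¹ * (x * y) = 1 := by
    refine h.eq_one_of_comm hb hH.2.1 hH.2.2 fun u hu => ?_
    have hu' := h.norm s sa u hu
    have hss : s * (s * u * s⁻¹) * s⁻¹ = u := by
      calc s * (s * u * s⁻¹) * s⁻¹ = (s * s) * u * (s * s)⁻¹ := by group
        _ = u := by rw [hs2]; group
    have v1 : u * (s * u * s⁻¹) ∈ centralizer ({s} : Set Γ) ⊓ P := by
      refine ⟨mem_centralizer_singleton_iff.2 ?_, P.mul_mem hu hu'⟩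
      have : s * (u * (s * u * s⁻¹)) * s⁻¹ = u * (s * u * s⁻¹) := by
        calc _ = (s * u * s⁻¹) * (s * (s * u * s⁻¹) * s⁻¹) := by group
          _ = _ := by rw [hss, h.comm hu' hu]
      rw [mul_inv_eq_iff_eq_mul] at this
      exact this.symm
    have v2 : (s * u * s⁻¹)⁻¹ * u ∈ Rm := by
      refine ⟨P.mul_mem (P.inv_mem hu') hu, ?_⟩
      calc _ = (s * (s * u * s⁻¹) * s⁻¹)⁻¹ * (s * u * s⁻¹) := by
            simp only [mul_inv_rev, inv_inv, mul_assoc, inv_mul_cancel_left]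
        _ = _ := by rw [hss]; group
    have c1 := conj_comm_of_card_dvd hp.out hR.dvd v1 (hp1 x hx _ v1) (hp1 y hy _ v1)
    have c2 := conj_comm_of_card_dvd hp.out hRm v2 (hm1 x hx _ v2) (hm1 y hy _ v2)
    have c3 : Commute ((y * x)⁻¹ * (x * y)) (u ^ 2) := by
      have e : u ^ 2 = (u * (s * u * s⁻¹)) * ((s * u * s⁻¹)⁻¹ * u) := by rw [sq]; group
      rw [e]
      have aux : ∀ v : Γ, x * y * v * (x * y)⁻¹ = y * x * v * (y * x)⁻¹ →
          Commute ((y * x)⁻¹ * (x * y)) v := by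
        intro v hv
        change (y * x)⁻¹ * (x * y) * v = v * ((y * x)⁻¹ * (x * y))
        calc _ = (y * x)⁻¹ * (x * y * v * (x * y)⁻¹) * (x * y) := by group
          _ = _ := by rw [hv]; group
      exact (aux _ c1).mul_right (aux _ c2)
    obtain ⟨m, hm⟩ := exists_pow_eq_self_of_coprime (hodd u hu)
    have c4 := c3.pow_right m
    rw [hm] at c4
    exact c4.eq
  rw [inv_mul_eq_one] at key
  exact key.symm

end refl

end TISet

end Cfsg.Agent.H73.LP
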