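import Mathlib.LinearAlgebra.Matrix.ProjectiveSpecialLinearGroup
import Mathlib.FieldTheory.Finite.Basic
import Mathlib.GroupTheory.Sylow
import Mathlib.GroupTheory.Solvable
import Cfsg.Prelude.Def_Characters
import Cfsg.Prelude.Def_Solvable

/-!
Pieces of the proof of S3597, S3598: a group of order `p²(p⁴-1)/2` with `O_p = 1` is `L₂(p²)`.
The paper proof is in `stubs/notes/h73_l2p2.md`.
-/

set_option autoImplicit false

namespace Cfsg.Agent.H73.LP

universe u

/-- `|G|` divides `p²(p⁴-1)/2`. -/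
def OrdDvd (p : ℕ) (G : Type u) [Group G] : Prop := 2 * Nat.card G ∣ p ^ 2 * (p ^ 4 - 1)

/-- `X` centralises every `r`-subgroup that it normalises. -/
def Sig {G : Type u} [Group G] (X : Subgroup G) (r : ℕ) : Prop :=
  ∀ U : Subgroup G, IsPGroup r U → X ≤ Subgroup.normalizer (U : Set G) →
    X ≤ Subgroup.centralizer (U : Set G)

/-- the number of Sylow `p`-subgroups that contain `x`. -/
noncomputable def n0 {G : Type u} [Group G] (p : ℕ) (x : G) : ℕ :=
  Nat.card {S : Sylow p G // x ∈ (S : Subgroup G)}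

/-- an irreducible character of `p`-defect zero forces `O_p(G) = 1`. -/
def PChar : Prop :=
  ∀ (G : Type u) [Group G] [Finite G] (p : ℕ) [Fact p.Prime] (χ : Cfsg.IrrCharacter G) (d : ℕ),
    (χ : G → ℂ) 1 = (d : ℂ) → ¬ p ∣ Nat.card G / d → Cfsg.pCore p G = ⊥

/-- coprime action in a group of order dividing `p²(p⁴-1)/2`. -/
def PCop : Prop :=
  ∀ (G : Type u) [Group G] [Finite G] (p r : ℕ), p.Prime → p ≠ 2 → r.Prime → r ≠ p → OrdDvd p G →
    ∀ X U : Subgroup G, IsPGroup p X → IsPGroup r U → X ≤ Subgroup.normalizer (U : Set G) →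
      X ≤ Subgroup.centralizer (U : Set G) ∨
        (r = 2 ∧ Nat.card U = (p + 1) * Nat.card ↥(U ⊓ Subgroup.centralizer (X : Set G)))

/-- the `p`-solvable case: `r` does not divide the number of Sylow `p`-subgroups. -/
def PSolv : Prop :=
  ∀ (H : Type u) [Group H] [Finite H] (p r : ℕ) [Fact p.Prime] (P : Sylow p H),
    IsMulCommutative (P : Subgroup H) → (∃ n : ℕ, ¬ p ∣ Nat.card (derivedSeries H n)) →
      r.Prime → r ≠ p → Sig (P : Subgroup H) r → ¬ r ∣ Nat.card (Sylow p H)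

/-- Brauer-Reynolds (S4700) for few Sylow subgroups of order `p`. -/
def PBR : Prop :=
  ∀ (H : Type u) [Group H] [Finite H] (p : ℕ) [Fact p.Prime] (R : Sylow p H), 5 ≤ p →
    Nat.card (R : Subgroup H) = p → Nat.card (Sylow p H) ^ 2 ≤ 2 * ((p + 1) * (p ^ 2 + 1)) →
      (p - 1 ∣ 2 * Nat.card (Subgroup.normalizer ((R : Subgroup H) : Set H))) ∨
        ∃ n : ℕ, ¬ p ∣ Nat.card (derivedSeries H n)

/-- counting Sylow subgroups of order `p²` when they are not a TI-set. -/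
def PCount : Prop :=
  ∀ (G : Type u) [Group G] [Finite G] (p : ℕ) [Fact p.Prime] (P : Sylow p G),
    Nat.card (P : Subgroup G) = p ^ 2 →
    (∃ S : Sylow p G, (P : Subgroup G) ⊓ (S : Subgroup G) = ⊥) →
    (∃ S : Sylow p G, S ≠ P ∧ (P : Subgroup G) ⊓ (S : Subgroup G) ≠ ⊥) →
      p ^ 2 + 2 ≤ Nat.card (Sylow p G) ∧
        ∃ x ∈ (P : Subgroup G), x ≠ 1 ∧ 2 ≤ n0 p x ∧
          (n0 p x ^ 2 ≤ 2 * Nat.card (Sylow p G) ∨ p ^ 2 * n0 p x ≤ Nat.card (Sylow p G))

/-- Mersenne case, first half: the Sylow 2-subgroups are abelian. -/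
def PMersA : Prop :=
  ∀ (G : Type u) [Group G] [Finite G] (p : ℕ), p.Prime → 5 ≤ p → OrdDvd p G →
    ∀ X U : Subgroup G, IsPGroup p X → IsPGroup 2 U → X ≤ Subgroup.normalizer (U : Set G) →
      Nat.card U = (p + 1) * Nat.card ↥(U ⊓ Subgroup.centralizer (X : Set G)) →
        ∃ (T : Sylow 2 G) (V : Subgroup G) (y : G), IsMulCommutative (T : Subgroup G) ∧
          V ≤ (T : Subgroup G) ∧ Nat.card V = p + 1 ∧ (∃ k : ℕ, y ^ p ^ k = 1) ∧
          y ∈ Subgroup.normalizer (V : Set G) ∧ V ⊓ Subgroup.centralizer ({y} : Set G) = ⊥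

/-- Mersenne case, second half: the group is solvable (Walter's list S0506, odd order S0205). -/
def PMersB : Prop :=
  ∀ (G : Type u) [Group G] [Finite G] (p : ℕ), p.Prime → 5 ≤ p → OrdDvd p G →
    ∀ (T : Sylow 2 G) (V : Subgroup G) (y : G), IsMulCommutative (T : Subgroup G) →
      V ≤ (T : Subgroup G) → Nat.card V = p + 1 → (∃ k : ℕ, y ^ p ^ k = 1) →
      y ∈ Subgroup.normalizer (V : Set G) → V ⊓ Subgroup.centralizer ({y} : Set G) = ⊥ →
        Group.IsSolvable G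

/-- an element of `P#` central in `N(P)` is impossible. -/
def PAlpha : Prop :=
  ∀ (G : Type u) [Group G] [Finite G] (p : ℕ) [Fact p.Prime] (P : Sylow p G),
    Nat.card (P : Subgroup G) = p ^ 2 → Cfsg.pCore p G = ⊥ →
    (∀ (X : Subgroup G) (r : ℕ), IsPGroup p X → r.Prime → r ≠ p → Sig X r) →
    ∀ x ∈ (P : Subgroup G), x ≠ 1 →
      Subgroup.normalizer ((P : Subgroup G) : Set G) ≤ Subgroup.centralizer ({x} : Set G) → False

/-- the TI case. -/
def PTI : Prop :=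
  ∀ (G : Type u) [Group G] [Finite G] (p : ℕ) [Fact p.Prime] (P : Sylow p G), p ≠ 2 →
    2 * Nat.card G = p ^ 2 * (p ^ 4 - 1) → Nat.card (Sylow p G) = p ^ 2 + 1 →
    (∃ S : Sylow p G, (P : Subgroup G) ⊓ (S : Subgroup G) = ⊥) →
      ∃ (F : Type) (_ : Field F) (_ : Fintype F), Fintype.card F = p ^ 2 ∧
        Nonempty (G ≃* Matrix.ProjectiveSpecialLinearGroup (Fin 2) F)

/-- the main theorem. -/
def PMain : Prop :=
  ∀ (G : Type u) [Group G] [Finite G] (p : ℕ) [Fact p.Prime], p ≠ 2 →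
    2 * Nat.card G = p ^ 2 * (p ^ 4 - 1) → Cfsg.pCore p G = ⊥ →
      ∃ (F : Type) (_ : Field F) (_ : Fintype F), Fintype.card F = p ^ 2 ∧
        Nonempty (G ≃* Matrix.ProjectiveSpecialLinearGroup (Fin 2) F)

end Cfsg.Agent.H73.LP
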